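import Cfsg.Agent.Fusion.PGroup
import Cfsg.Agent.HSub.Supersolvable
import Mathlib.RingTheory.Int.Basic
import Mathlib.Tactic.LinearCombination
import Mathlib.GroupTheory.SpecificGroups.Cyclic

/-!
# The `p`-th power map on a characteristic subgroup with cyclic centre
-/

set_option autoImplicit false

namespace Cfsg.Agent.SymplecticType

open Subgroup
open scoped commutatorElement

variable {G : Type*} [Group G] [Finite G] {p : ℕ} [Fact p.Prime]

/-- In a cyclic `p`-group the elements killed by `p` lie in every nontrivial subgroup. -/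
theorem mem_of_pow_eq_one {z₀ x w : G} (hpG : IsPGroup p G) (hx : x ∈ zpowers z₀) (hxp : x ^ p = 1)
    (hw : w ∈ zpowers z₀) (hw1 : w ≠ 1) : x ∈ zpowers w := by
  classical
  by_cases hx1 : x = 1
  · rw [hx1]; exact one_mem _
  obtain ⟨Z, hZ, hxZ, hwZ⟩ : ∃ Z : Subgroup G, IsCyclic Z ∧ zpowers x ≤ Z ∧ zpowers w ≤ Z :=
    ⟨zpowers z₀, inferInstance, zpowers_le.2 hx, zpowers_le.2 hw⟩
  have hxc : Nat.card (zpowers x) = p := by rw [Nat.card_zpowers, orderOf_eq_prime hxp hx1]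
  obtain ⟨k, hk⟩ := IsPGroup.iff_card.1 (hpG.to_subgroup (zpowers w))
  have hk1 : 1 ≤ k := by
    rcases Nat.eq_zero_or_pos k with h0 | h0
    · rw [h0, pow_zero] at hk
      exact absurd (zpowers_eq_bot.1 (eq_bot_of_card_eq _ hk)) hw1
    · exact h0
  have hpw : p ∣ Nat.card (zpowers w) := hk ▸ dvd_pow_self p (by omega)
  obtain ⟨y, hy⟩ := exists_prime_orderOf_dvd_card' p hpw
  have hyc : Nat.card (zpowers (y : G)) = p := by rw [Nat.card_zpowers, orderOf_coe, hy]
  have hyZ : zpowers (y : G) ≤ Z := (zpowers_le.2 y.2).trans hwZ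
  have : x ∈ zpowers (y : G) :=
    (HSub.subgroup_eq_of_card_eq hZ hxZ hyZ (hxc.trans hyc.symm)).le (mem_zpowers x)
  exact zpowers_le.2 y.2 this

/-- `(xy)^p` for elements with central commutator of order dividing `p`. -/
theorem mul_pow_prime {x y : G} (hx : Commute ⁅y, x⁆ x) (hy : Commute ⁅y, x⁆ y)
    (hc : ⁅y, x⁆ ^ p = 1) :
    (x * y) ^ p = x ^ p * y ^ p ∨ (p = 2 ∧ (x * y) ^ p = x ^ p * y ^ p * ⁅y, x⁆) := by
  have hp := (Fact.out : p.Prime)
  have e := Fusion.mul_pow_of_commute_commutator hx hy p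
  rcases hp.eq_two_or_odd' with h | h
  · subst h
    right
    refine ⟨rfl, ?_⟩
    rw [e, show (2 : ℕ).choose 2 = 1 from rfl, pow_one]
  · left
    obtain ⟨k, hk⟩ := h
    have hd : p.choose 2 = p * k := by
      rw [Nat.choose_two_right, show p - 1 = 2 * k by omega, ← mul_assoc, mul_comm p 2, mul_assoc,
        Nat.mul_div_cancel_left _ (by norm_num)]
    rw [e, hd, pow_mul, hc, one_pow, mul_one]

/-- If every abelian characteristic subgroup of `G` is cyclic and `X` is characteristic, of class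
at most two with cyclic centre `⟨y₀⟩` containing all `p`-th powers and commutators of order
dividing `p`, then the `p`-th powers lie in `⟨y₀ ^ p⟩`, provided that for `p = 2` the commutators do. -/
theorem pow_mem_pow (hpG : IsPGroup p G)
    (hsymp : ∀ A : Subgroup G, A.Characteristic → IsMulCommutative A → IsCyclic A)
    (X : Subgroup G) (hXc : X.Characteristic) (y₀ : G)
    (hY : X ⊓ centralizer (X : Set G) = zpowers y₀)
    (hcomm : ∀ x ∈ X, ∀ y ∈ X, ⁅x, y⁆ ∈ zpowers y₀ ∧ ⁅x, y⁆ ^ p = 1)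
    (hpow : ∀ x ∈ X, x ^ p ∈ zpowers y₀)
    (h2 : p = 2 → ∀ x ∈ X, ∀ y ∈ X, ⁅x, y⁆ ∈ zpowers (y₀ ^ p)) :
    ∀ x ∈ X, x ^ p ∈ zpowers (y₀ ^ p) := by
  classical
  have hp := (Fact.out : p.Prime)
  have hYX : zpowers y₀ ≤ X := hY ▸ inf_le_left
  have hYC : ∀ z ∈ zpowers y₀, ∀ x ∈ X, x * z = z * x := fun z hz x hx =>
    mem_centralizer_iff.1 (hY.ge hz).2 x hx
  have hYp : ∀ z, z ∈ zpowers (y₀ ^ p) ↔ ∃ u ∈ zpowers y₀, u ^ p = z := by
    intro z
    constructor
    · intro hz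
      obtain ⟨i, rfl⟩ := mem_zpowers_iff.1 hz
      refine ⟨y₀ ^ i, zpow_mem (mem_zpowers _) i, ?_⟩
      rw [← zpow_natCast, ← zpow_mul, mul_comm, zpow_mul, zpow_natCast]
    · rintro ⟨u, hu, rfl⟩
      obtain ⟨i, rfl⟩ := mem_zpowers_iff.1 hu
      refine mem_zpowers_iff.2 ⟨i, ?_⟩
      rw [← zpow_natCast, ← zpow_mul, mul_comm, zpow_mul, zpow_natCast]
  have hYpY : zpowers (y₀ ^ p) ≤ zpowers y₀ := zpowers_le.2 (pow_mem (mem_zpowers _) p)
  have hmul : ∀ a ∈ X, ∀ b ∈ X, ∃ c ∈ zpowers (y₀ ^ p), (a * b) ^ p = a ^ p * b ^ p * c := by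
    intro a ha b hb
    obtain ⟨h1, h1'⟩ := hcomm b hb a ha
    have hca : Commute ⁅b, a⁆ a := (hYC _ h1 a ha).symm
    have hcb : Commute ⁅b, a⁆ b := (hYC _ h1 b hb).symm
    rcases mul_pow_prime hca hcb h1' with e | ⟨h22, e⟩
    · exact ⟨1, one_mem _, by rw [e, mul_one]⟩
    · exact ⟨_, h2 h22 b hb a ha, e⟩
  let K : Subgroup G :=
    { carrier := {x | x ∈ X ∧ x ^ p ∈ zpowers (y₀ ^ p)}
      one_mem' := ⟨one_mem _, by rw [one_pow]; exact one_mem _⟩
      mul_mem' := by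
        rintro a b ⟨ha, ha'⟩ ⟨hb, hb'⟩
        obtain ⟨c, hc, e⟩ := hmul a ha b hb
        exact ⟨mul_mem ha hb, e ▸ mul_mem (mul_mem ha' hb') hc⟩
      inv_mem' := fun {a} ha => ⟨inv_mem ha.1, by rw [inv_pow]; exact inv_mem ha.2⟩ }
  by_contra! hne
  obtain ⟨x₀, hx₀, hx₀p⟩ := hne
  have hKX : K ≤ X := fun x hx => hx.1
  have hYK : zpowers y₀ ≤ K := fun z hz => ⟨hYX hz, (hYp _).2 ⟨z, hz, rfl⟩⟩
  have hYT : ∀ φ : G ≃* G, ∀ z ∈ zpowers y₀, φ z ∈ zpowers y₀ := by
    intro φ z hz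
    rw [← hY] at hz ⊢
    refine ⟨(characteristic_iff_le_comap.1 hXc φ) hz.1, mem_centralizer_iff.2 fun x hx => ?_⟩
    obtain ⟨x', rfl⟩ := φ.surjective x
    have hx' : x' ∈ X := by
      have := (characteristic_iff_le_comap.1 hXc φ.symm) hx
      simpa using this
    rw [← map_mul, mem_centralizer_iff.1 hz.2 x' hx', map_mul]
  have hKchar : ∀ φ : G ≃* G, ∀ x ∈ K, φ x ∈ K := by
    intro φ x hx
    obtain ⟨u, hu, hux⟩ := (hYp _).1 hx.2
    exact ⟨(characteristic_iff_le_comap.1 hXc φ) hx.1,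
      (hYp _).2 ⟨φ u, hYT φ u hu, by rw [← map_pow, hux, map_pow]⟩⟩
  -- index bound for centralizers
  have hbound : ∀ S : Finset G, (∀ s ∈ S, s ∈ K) → ∃ L : Subgroup G, zpowers y₀ ≤ L ∧ L ≤ K ∧
      (∀ s ∈ S, s ∈ L) ∧
      Nat.card X * Nat.card (zpowers y₀) ≤ Nat.card ↥(X ⊓ centralizer (L : Set G)) * Nat.card L := by
    intro S
    induction S using Finset.induction with
    | empty =>
      refine fun _ => ⟨zpowers y₀, le_rfl, hYK, by simp, ?_⟩
      have : X ⊓ centralizer (zpowers y₀ : Set G) = X := inf_eq_left.2 fun x hx =>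
        mem_centralizer_iff.2 fun z hz => (hYC z hz x hx).symm
      rw [this]
    | insert s S _ ih =>
      intro hS
      obtain ⟨L, hYL, hLK, hSL, hL⟩ := ih fun t ht => hS t (Finset.mem_insert_of_mem ht)
      by_cases hsL : s ∈ L
      · exact ⟨L, hYL, hLK, fun t ht => (Finset.mem_insert.1 ht).elim (· ▸ hsL) (hSL t), hL⟩
      have hsK := hS s (Finset.mem_insert_self s S)
      refine ⟨L ⊔ zpowers s, hYL.trans le_sup_left, sup_le hLK (zpowers_le.2 hsK),
        fun t ht => (Finset.mem_insert.1 ht).elim (fun e => e.symm ▸ mem_sup_right (mem_zpowers s))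
          (fun h => mem_sup_left (hSL t h)), ?_⟩
      have hlt : L < L ⊔ zpowers s := lt_of_le_of_ne le_sup_left fun e =>
        hsL (e ▸ mem_sup_right (mem_zpowers s))
      have hcardL : p * Nat.card L ≤ Nat.card ↥(L ⊔ zpowers s) := by
        have hdvd := card_dvd_of_le hlt.le
        obtain ⟨i, hi⟩ := IsPGroup.iff_card.1 (hpG.to_subgroup L)
        obtain ⟨j, hj⟩ := IsPGroup.iff_card.1 (hpG.to_subgroup (L ⊔ zpowers s))
        rw [hi, hj] at hdvd ⊢
        have hij : i < j := by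
          rcases lt_or_ge i j with h | h
          · exact h
          · exfalso
            refine hlt.ne (eq_of_le_of_card_ge hlt.le ?_)
            rw [hi, hj]
            exact Nat.pow_le_pow_right hp.pos h
        calc p * p ^ i = p ^ (i + 1) := (pow_succ' p i).symm
          _ ≤ p ^ j := Nat.pow_le_pow_right hp.pos hij
      set A := X ⊓ centralizer (L : Set G)
      set B := X ⊓ centralizer ((L ⊔ zpowers s : Subgroup G) : Set G)
      have hΩ : ∃ w ∈ zpowers y₀, ∀ a ∈ A, ⁅a, s⁆ ∈ zpowers w ∧ orderOf w ∣ p := by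
        by_cases hall : ∀ a ∈ A, ⁅a, s⁆ = 1
        · exact ⟨1, one_mem _, fun a ha => ⟨by rw [hall a ha]; exact one_mem _, by simp⟩⟩
        push Not at hall
        obtain ⟨a₁, ha₁, ha₁'⟩ := hall
        obtain ⟨h1, h1'⟩ := hcomm a₁ ha₁.1 s hsK.1
        exact ⟨_, h1, fun a ha => ⟨mem_of_pow_eq_one hpG (hcomm a ha.1 s hsK.1).1
          (hcomm a ha.1 s hsK.1).2 h1 ha₁', orderOf_dvd_of_pow_eq_one h1'⟩⟩
      obtain ⟨w, hw, hwA⟩ := hΩ
      let f : A →* zpowers w :=
        MonoidHom.mk' (fun a => ⟨⁅(a : G), s⁆, (hwA a a.2).1⟩) fun a b => Subtype.ext (by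
          show ⁅(a : G) * b, s⁆ = ⁅(a : G), s⁆ * ⁅(b : G), s⁆
          have hc := hYC _ (hcomm b b.2.1 s hsK.1).1 a a.2.1
          have hc' := hYC _ (hcomm b b.2.1 s hsK.1).1 ⁅(a : G), s⁆ (hYX (hcomm a a.2.1 s hsK.1).1)
          calc ⁅(a : G) * b, s⁆ = ((a : G) * ⁅(b : G), s⁆) * (a : G)⁻¹ * ⁅(a : G), s⁆ := by
                simp only [commutatorElement_def]; group
            _ = ⁅(b : G), s⁆ * ⁅(a : G), s⁆ := by rw [hc]; group
            _ = _ := hc'.symm)
      have hker : f.ker.map A.subtype ≤ B := by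
        rintro _ ⟨a, ha, rfl⟩
        refine ⟨a.2.1, ?_⟩
        have hs' : (a : G) ∈ centralizer ({s} : Set G) := by
          have : ⁅(a : G), s⁆ = 1 := congrArg Subtype.val (MonoidHom.mem_ker.1 ha)
          exact mem_centralizer_singleton_iff.2 (commutatorElement_eq_one_iff_mul_comm.1 this)
        rw [SetLike.mem_coe] at *
        refine mem_centralizer_iff.2 fun y hy => ?_
        have hyc : L ⊔ zpowers s ≤ centralizer ({(a : G)} : Set G) := by
          refine sup_le (fun l hl => ?_) (zpowers_le.2 ?_)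
          · exact mem_centralizer_singleton_iff.2 (mem_centralizer_iff.1 a.2.2 l hl)
          · exact mem_centralizer_singleton_iff.2 (mem_centralizer_singleton_iff.1 hs').symm
        exact mem_centralizer_singleton_iff.1 (hyc hy)
      have hAB : Nat.card A ≤ p * Nat.card B := by
        have hr : Nat.card f.range ≤ p := by
          refine (card_le_of_le (H := f.range) le_top).trans ?_
          rw [card_top, Nat.card_zpowers]
          exact Nat.le_of_dvd hp.pos (hwA 1 (one_mem _)).2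
        calc Nat.card A = Nat.card f.ker * f.ker.index := (card_mul_index _).symm
          _ ≤ Nat.card B * p := by
              refine Nat.mul_le_mul ?_ (by rw [index_ker]; exact hr)
              rw [← card_map_of_injective A.subtype_injective]
              exact card_le_of_le hker
          _ = _ := mul_comm _ _
      calc Nat.card X * Nat.card (zpowers y₀) ≤ Nat.card A * Nat.card L := hL
        _ ≤ p * Nat.card B * Nat.card L := Nat.mul_le_mul_right _ hAB
        _ = Nat.card B * (p * Nat.card L) := by ring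
        _ ≤ Nat.card B * Nat.card ↥(L ⊔ zpowers s) := Nat.mul_le_mul_left _ hcardL
  obtain ⟨L, -, hLK, hSL, hL⟩ := hbound (Set.toFinite (K : Set G)).toFinset fun s hs => by simpa using hs
  obtain rfl : L = K := le_antisymm hLK fun k hk => hSL k (by simpa using hk)
  have hlt : Nat.card (zpowers y₀) < Nat.card ↥(X ⊓ centralizer (K : Set G)) := by
    refine Nat.lt_of_not_le fun hge => ?_
    have h1 : Nat.card X ≤ Nat.card K := by
      refine Nat.le_of_mul_le_mul_right ?_ (Nat.card_pos (α := zpowers y₀))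
      calc _ ≤ _ := hL
        _ ≤ Nat.card (zpowers y₀) * Nat.card K := Nat.mul_le_mul_right _ hge
        _ = _ := mul_comm _ _
    exact hx₀p ((eq_of_le_of_card_ge hKX h1).ge hx₀).2
  obtain ⟨w, hw, hwY⟩ : ∃ w ∈ X ⊓ centralizer (K : Set G), w ∉ zpowers y₀ := by
    by_contra! h
    exact hlt.not_ge (card_le_of_le h)
  have hwK : w ∈ K := by
    by_contra hwK
    have hwp : w ^ p ∈ zpowers y₀ := hpow w hw.1
    -- `x₀` is a product of a power of `w` and an element of `K`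
    have hgen : ∃ j : ℕ, x₀ * w ^ j ∈ K := by
      have hnot : w ^ p ∉ zpowers (y₀ ^ p) := fun h => hwK ⟨hw.1, h⟩
      obtain ⟨i, hi⟩ := mem_zpowers_iff.1 hwp
      have hip : ¬ (p : ℤ) ∣ i := fun ⟨t, ht⟩ => hnot
        (mem_zpowers_iff.2 ⟨t, by rw [← hi, ht, zpow_mul, zpow_natCast]⟩)
      obtain ⟨l, hl⟩ := mem_zpowers_iff.1 (hpow x₀ hx₀)
      obtain ⟨u, v, huv⟩ := (Int.isCoprime_iff_nat_coprime (a := (p : ℤ)) (b := i)).2
        ((Nat.Prime.coprime_iff_not_dvd hp).2 fun h => hip (Int.natCast_dvd.2 h))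
      obtain ⟨j, hj⟩ : ∃ j : ℕ, (p : ℤ) ∣ l + i * j := by
        refine ⟨(-(l * v) % (p : ℤ)).toNat, ?_⟩
        rw [Int.toNat_of_nonneg (Int.emod_nonneg _ (by exact_mod_cast hp.ne_zero))]
        obtain ⟨r, hr⟩ : (p : ℤ) ∣ -(l * v) % p - -(l * v) :=
          ⟨-(-(l * v) / p), by have := Int.mul_ediv_add_emod (-(l * v)) p; linarith⟩
        exact ⟨u * l + i * r, by linear_combination i * hr - l * huv⟩
      refine ⟨j, mul_mem hx₀ (pow_mem hw.1 j), ?_⟩
      obtain ⟨c, hc, e⟩ := hmul x₀ hx₀ (w ^ j) (pow_mem hw.1 j)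
      rw [e]
      refine mul_mem (?_ : x₀ ^ p * (w ^ j) ^ p ∈ zpowers (y₀ ^ p)) hc
      obtain ⟨t, ht⟩ := hj
      refine mem_zpowers_iff.2 ⟨t, ?_⟩
      rw [← pow_mul, mul_comm j p, pow_mul, ← hl, ← hi, ← zpow_natCast (y₀ ^ i), ← zpow_mul,
        ← zpow_add, ht, zpow_mul, zpow_natCast]
    obtain ⟨j, hj⟩ := hgen
    have hwc : w ∈ zpowers y₀ := by
      rw [← hY]
      refine ⟨hw.1, mem_centralizer_iff.2 fun x hx => ?_⟩
      obtain ⟨i, hi⟩ := mem_zpowers_iff.1 (hpow x hx)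
      obtain ⟨l, hl⟩ := mem_zpowers_iff.1 (hpow x₀ hx₀)
      -- write `x = x₀ ^ m * k` with `k ∈ K`
      obtain ⟨m, hm⟩ : ∃ m : ℕ, x * x₀ ^ m ∈ K := by
        have hlp : ¬ (p : ℤ) ∣ l := fun ⟨t, ht⟩ => hx₀p
          (mem_zpowers_iff.2 ⟨t, by rw [← hl, ht, zpow_mul, zpow_natCast]⟩)
        obtain ⟨u, v, huv⟩ := (Int.isCoprime_iff_nat_coprime (a := (p : ℤ)) (b := l)).2
          ((Nat.Prime.coprime_iff_not_dvd hp).2 fun h => hlp (Int.natCast_dvd.2 h))
        obtain ⟨m, hm⟩ : ∃ m : ℕ, (p : ℤ) ∣ i + l * m := by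
          refine ⟨(-(i * v) % (p : ℤ)).toNat, ?_⟩
          rw [Int.toNat_of_nonneg (Int.emod_nonneg _ (by exact_mod_cast hp.ne_zero))]
          obtain ⟨r, hr⟩ : (p : ℤ) ∣ -(i * v) % p - -(i * v) :=
            ⟨-(-(i * v) / p), by have := Int.mul_ediv_add_emod (-(i * v)) p; linarith⟩
          exact ⟨u * i + l * r, by linear_combination l * hr - i * huv⟩
        refine ⟨m, mul_mem hx (pow_mem hx₀ m), ?_⟩
        obtain ⟨c, hc, e⟩ := hmul x hx (x₀ ^ m) (pow_mem hx₀ m)
        rw [e]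
        refine mul_mem (?_ : x ^ p * (x₀ ^ m) ^ p ∈ zpowers (y₀ ^ p)) hc
        obtain ⟨t, ht⟩ := hm
        refine mem_zpowers_iff.2 ⟨t, ?_⟩
        rw [← pow_mul, mul_comm m p, pow_mul, ← hi, ← hl, ← zpow_natCast (y₀ ^ l), ← zpow_mul,
          ← zpow_add, ht, zpow_mul, zpow_natCast]
      have c0 : Commute (x₀ * w ^ j) w := mem_centralizer_iff.1 hw.2 _ hj
      have c1 : Commute x₀ w := by
        have := c0.mul_left ((Commute.refl w).pow_left j).inv_left
        rwa [mul_inv_cancel_right] at this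
      have c2 : Commute (x * x₀ ^ m) w := mem_centralizer_iff.1 hw.2 _ hm
      have := c2.mul_left (c1.pow_left m).inv_left
      rwa [mul_inv_cancel_right] at this
    exact hwY hwc
  -- the centre of `K` is cyclic, a contradiction
  have hZc : (K ⊓ centralizer (K : Set G)).Characteristic := by
    have hKc : K.Characteristic := characteristic_iff_le_comap.2 fun φ x hx => hKchar φ x hx
    rw [characteristic_iff_le_comap]
    intro φ
    rw [comap_inf]
    exact inf_le_inf (characteristic_iff_le_comap.1 hKc φ)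
      (characteristic_iff_le_comap.1 inferInstance φ)
  have hab : IsMulCommutative ↥(K ⊓ centralizer (K : Set G)) :=
    le_centralizer_iff_isMulCommutative.1 (inf_le_right.trans (centralizer_le inf_le_left))
  obtain ⟨g, hg⟩ := (hsymp _ hZc hab).exists_generator
  have hgp : (g : G) ^ p ∈ zpowers (y₀ ^ p) := g.2.1.2
  have hgen : ∀ x ∈ K ⊓ centralizer (K : Set G), x ∈ zpowers (g : G) := fun x hx => by
    obtain ⟨i, hi⟩ := mem_zpowers_iff.1 (hg ⟨x, hx⟩)
    exact mem_zpowers_iff.2 ⟨i, congrArg Subtype.val hi⟩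
  have hy₀ : y₀ ∈ zpowers (g : G) := hgen y₀ ⟨hYK (mem_zpowers _),
    mem_centralizer_iff.2 fun k hk => hYC y₀ (mem_zpowers _) k hk.1⟩
  have hwg : w ∈ zpowers (g : G) := hgen w ⟨hwK, hw.2⟩
  obtain ⟨i, hi⟩ := mem_zpowers_iff.1 hy₀
  by_cases hpi : (p : ℤ) ∣ i
  · obtain ⟨t, ht⟩ := hpi
    have hy1 : y₀ ∈ zpowers (y₀ ^ p) := by
      have e : ((g : G) ^ p) ^ t = y₀ := by rw [← zpow_natCast, ← zpow_mul, ← ht, hi]
      exact e ▸ zpow_mem hgp t
    refine hx₀p ?_
    exact (zpowers_le.2 hy1) (hpow x₀ hx₀)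
  · refine hwY ?_
    obtain ⟨u, v, huv⟩ := (Int.isCoprime_iff_nat_coprime (a := (p : ℤ)) (b := i)).2
      ((Nat.Prime.coprime_iff_not_dvd hp).2 fun h => hpi (Int.natCast_dvd.2 h))
    have hgy : (g : G) ∈ zpowers y₀ := by
      have e : (g : G) = ((g : G) ^ p) ^ u * y₀ ^ v := by
        rw [← hi, ← zpow_natCast, ← zpow_mul, ← zpow_mul, ← zpow_add, mul_comm (p : ℤ), mul_comm i, huv,
          zpow_one]
      rw [e]
      exact mul_mem (zpow_mem (hYpY hgp) u) (zpow_mem (mem_zpowers _) v)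
    exact (zpowers_le.2 hgy) hwg

end Cfsg.Agent.SymplecticType
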