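import Cfsg.Prelude.Def_CaseTheorems
import Cfsg.Agent.SymplecticType.PowerLemma
import Cfsg.Agent.Fusion.Critical
import Cfsg.Agent.Fusion.Extraspecial
import Cfsg.Agent.MaxClass.Basic
import Mathlib.NumberTheory.Multiplicity

/-!
# Hall's theorem on groups of symplectic type
-/

set_option autoImplicit false

namespace Cfsg.Agent.SymplecticType

open Subgroup
open scoped commutatorElement

variable {G : Type*} [Group G] [Finite G] {p : ℕ} [Fact p.Prime]

omit [Finite G] [Fact p.Prime] in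
theorem pow_eq_one_of_conj {g x d : G} (hxd : Commute x d) (h : g * x * g⁻¹ = x * d)
    (hg : g * x ^ p * g⁻¹ = x ^ p) : d ^ p = 1 := by
  have := conj_pow (a := g) (b := x) (i := p)
  rw [h, hxd.mul_pow, hg] at this
  exact mul_eq_left.1 this

omit [Finite G] in
theorem odd_unit {n : ℕ} (hp : p ≠ 2) {a : ℤ} (hn : 1 ≤ n) (h : (p : ℤ) ^ n ∣ a ^ p - 1) :
    (p : ℤ) ^ (n - 1) ∣ a - 1 := by
  have hp' := (Fact.out : p.Prime)
  have hodd : Odd p := hp'.odd_of_ne_two hp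
  have hf : (p : ℤ) ∣ a ^ p - a := by
    rw [← ZMod.intCast_zmod_eq_zero_iff_dvd]
    push_cast
    rw [ZMod.pow_card, sub_self]
  have h1 : (p : ℤ) ∣ a - 1 := by
    have := dvd_sub ((dvd_pow_self (p : ℤ) (by omega : n ≠ 0)).trans h) hf
    rwa [show a ^ p - 1 - (a ^ p - a) = a - 1 by ring] at this
  have hna : ¬ (p : ℤ) ∣ a := fun hd => by
    have := dvd_sub hd h1
    rw [sub_sub_cancel] at this
    exact hp'.ne_one (by exact_mod_cast Int.eq_one_of_dvd_one (by positivity) this)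
  have e := Int.emultiplicity_pow_sub_pow hp' hodd (x := a) (y := 1) h1 hna p
  rw [one_pow, Nat.Prime.emultiplicity_self hp'] at e
  have h2 : (n : ℕ∞) ≤ emultiplicity (p : ℤ) (a ^ p - 1) := le_emultiplicity_of_pow_dvd h
  rw [e] at h2
  refine pow_dvd_of_le_emultiplicity ?_
  refine (ENat.add_le_add_iff_right ENat.one_ne_top).1 ?_
  calc ((n - 1 : ℕ) : ℕ∞) + 1 = (n : ℕ∞) := by exact_mod_cast Nat.sub_add_cancel hn
    _ ≤ _ := h2

theorem isCyclic_of_le_zpowers {K : Subgroup G} {g : G} (h : K ≤ zpowers g) : IsCyclic K :=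
  isCyclic_of_injective (Subgroup.inclusion h) (Subgroup.inclusion_injective h)

omit [Finite G] in
theorem zpow_mem_sq {z : G} {i : ℤ} (h : (2 : ℤ) ∣ i) : z ^ i ∈ zpowers (z ^ 2) := by
  obtain ⟨t, rfl⟩ := h
  refine mem_zpowers_iff.2 ⟨t, ?_⟩
  rw [← zpow_natCast z 2, ← zpow_mul]
  norm_num

/-- Hall's theorem. -/
theorem hall (hG : IsPGroup p G)
    (hsymp : ∀ A : Subgroup G, A.Characteristic → IsMulCommutative A → IsCyclic A) :
    ∃ E R : Subgroup G, (∀ e ∈ E, ∀ r ∈ R, e * r = r * e) ∧ E ⊔ R = ⊤ ∧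
      (E = ⊥ ∨ Cfsg.IsExtraspecial p ↥E) ∧
      (IsCyclic R ∨ (p = 2 ∧ 16 ≤ Nat.card R ∧ ((∃ m : ℕ, Nonempty (↥R ≃* DihedralGroup m)) ∨
        (∃ m : ℕ, Nonempty (↥R ≃* QuaternionGroup m)) ∨ Cfsg.IsQuasiDihedral ↥R))) := by
  classical
  have hp := (Fact.out : p.Prime)
  obtain ⟨H, hHc, -, hHf, hHG, hCH⟩ := Fusion.exists_critical hG
  set Z := H ⊓ centralizer (H : Set G) with hZdef
  have hZc : Z.Characteristic := by
    rw [characteristic_iff_le_comap]
    intro φ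
    rw [hZdef, comap_inf]
    exact inf_le_inf (characteristic_iff_le_comap.1 hHc φ) (characteristic_iff_le_comap.1 inferInstance φ)
  have hZab : IsMulCommutative Z :=
    le_centralizer_iff_isMulCommutative.1 (inf_le_right.trans (centralizer_le inf_le_left))
  obtain ⟨⟨z₀, hz₀⟩, hgen⟩ := (hsymp Z hZc hZab).exists_generator
  have hZ : Z = zpowers z₀ := le_antisymm (fun x hx => by
    obtain ⟨i, hi⟩ := mem_zpowers_iff.1 (hgen ⟨x, hx⟩)
    exact mem_zpowers_iff.2 ⟨i, congrArg Subtype.val hi⟩) (zpowers_le.2 hz₀)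
  have hZH : zpowers z₀ ≤ H := hZ ▸ inf_le_left
  have hHZ : ∀ h ∈ H, ∀ z ∈ zpowers z₀, h * z = z * h := fun h hh z hz =>
    mem_centralizer_iff.1 (hZ.ge hz).2 h hh
  have hCHZ : ∀ x : G, (∀ h ∈ H, h * x = x * h) → x ∈ zpowers z₀ := fun x hx =>
    hZ.le ⟨hCH (mem_centralizer_iff.2 hx), mem_centralizer_iff.2 hx⟩
  have hconjH : ∀ g : G, ∀ h ∈ H, ∃ d ∈ zpowers z₀, g * h * g⁻¹ = h * d := by
    intro g h hh
    refine ⟨(⁅h, g⁆)⁻¹, inv_mem (hZ.le (hHG (commutator_mem_commutator hh (mem_top g)))), ?_⟩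
    have hd : ⁅h, g⁆ ∈ zpowers z₀ := hZ.le (hHG (commutator_mem_commutator hh (mem_top g)))
    rw [hHZ h hh _ (inv_mem hd), commutatorElement_def]
    group
  have hHp : ∀ h ∈ H, h ^ p ∈ zpowers z₀ := fun h hh => hZ.le ⟨pow_mem hh p,
    hHf ⟨⟨h, hh⟩ ^ p, Core.pow_mem_frattini (hG.to_subgroup H) _, rfl⟩⟩
  obtain ⟨n, hn⟩ := IsPGroup.iff_orderOf.1 hG z₀
  rcases Nat.eq_zero_or_pos n with hn0 | hn1
  · -- the centre of `H` is trivial
    rw [hn0, pow_zero, orderOf_eq_one_iff] at hn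
    have hH : H = ⊥ := by
      by_contra hH
      have : Nontrivial H := (Subgroup.nontrivial_iff_ne_bot H).2 hH
      have := (hG.to_subgroup H).center_nontrivial
      obtain ⟨⟨⟨x, hx⟩, hxc⟩, hx1⟩ := exists_ne (1 : center H)
      have hxz : x ∈ zpowers z₀ := hCHZ x fun h hh => congrArg Subtype.val (mem_center_iff.1 hxc ⟨h, hh⟩)
      rw [hn, zpowers_one_eq_bot, mem_bot] at hxz
      exact hx1 (Subtype.ext (Subtype.ext hxz))
    have htop : ∀ x : G, x = 1 := fun x => by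
      have := hCH (mem_centralizer_iff.2 fun h hh => by
        rw [SetLike.mem_coe, hH, mem_bot] at hh; subst hh; simp : x ∈ centralizer (H : Set G))
      rwa [hH, mem_bot] at this
    refine ⟨⊥, ⊤, fun e he r _ => by rw [mem_bot] at he; subst he; simp, by simp, Or.inl rfl, Or.inl ?_⟩
    exact isCyclic_of_le_zpowers (g := (1 : G)) fun x _ => by rw [htop x]; exact one_mem _
  set c := z₀ ^ p ^ (n - 1) with hc
  have hcp : c ^ p = 1 := by
    rw [hc, ← pow_mul, ← pow_succ, Nat.sub_add_cancel hn1, ← hn, pow_orderOf_eq_one]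
  have hc1 : c ≠ 1 := by
    intro e
    have := orderOf_dvd_of_pow_eq_one e
    rw [hn, Nat.pow_dvd_pow_iff_le_right hp.one_lt] at this
    omega
  have hcord : orderOf c = p := orderOf_eq_prime hcp hc1
  have hcZ : c ∈ zpowers z₀ := pow_mem (mem_zpowers _) _
  have hΩ : ∀ x ∈ zpowers z₀, x ^ p = 1 → x ∈ zpowers c := fun x hx hxp =>
    mem_of_pow_eq_one hG hx hxp hcZ hc1
  have hZconj : ∀ g : G, ∀ z ∈ zpowers z₀, g * z * g⁻¹ ∈ zpowers z₀ := fun g z hz =>
    hZ.le ((normal_of_characteristic Z).conj_mem z (hZ.ge hz) g)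
  have hcen : zpowers c ≤ center G := by
    have hN : (zpowers c).Normal := ⟨fun x hx g => hΩ _ (hZconj g x ((zpowers_le.2 hcZ) hx)) (by
      rw [conj_pow]
      obtain ⟨i, rfl⟩ := mem_zpowers_iff.1 hx
      rw [← zpow_natCast (c ^ i), ← zpow_mul, mul_comm, zpow_mul, zpow_natCast, hcp, one_zpow]
      group)⟩
    exact Fusion.le_center_of_card_eq_prime hG _ (by rw [Nat.card_zpowers, hcord])
  have hccomm : ∀ g : G, ∀ d ∈ zpowers c, g * d = d * g := fun g d hd => mem_center_iff.1 (hcen hd) g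
  have hcH : c ∈ H := hZH hcZ
  have hHcomm : ∀ x ∈ H, ∀ y ∈ H, ∃ d ∈ zpowers c, x * y * x⁻¹ = y * d := by
    intro x hx y hy
    obtain ⟨d, hd, e⟩ := hconjH x y hy
    refine ⟨d, hΩ d hd (pow_eq_one_of_conj (hHZ y hy d hd) e ?_), e⟩
    rw [hHZ x hx _ (hHp y hy), mul_inv_cancel_right]
  -- a supplement `E₀` of `Z` in `H`
  obtain ⟨E₀, hE₀H, hcE₀, hsupp, hEZ, hEp, hEconj⟩ : ∃ E₀ : Subgroup G, E₀ ≤ H ∧ c ∈ E₀ ∧
      (∀ h ∈ H, ∃ e ∈ E₀, ∃ z ∈ zpowers z₀, h = e * z) ∧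
      (∀ x ∈ E₀, x ∈ zpowers z₀ → x ∈ zpowers c) ∧ (∀ e ∈ E₀, e ^ p ∈ zpowers c) ∧
      ∀ g : G, ∀ e ∈ E₀, ∃ d ∈ zpowers c, g * e * g⁻¹ = e * d := by
    by_cases hsmall : p = 2 ∧ n = 1
    · have hzc : zpowers z₀ ≤ zpowers c := by
        rw [hc, hsmall.2, Nat.sub_self, pow_zero, pow_one]
      exact ⟨H, le_rfl, hcH, fun h hh => ⟨h, hh, 1, one_mem _, (mul_one h).symm⟩,
        fun x _ hx => hzc hx, fun e he => hzc (hHp e he),
        fun g e he => (hconjH g e he).imp fun d hd => ⟨hzc hd.1, hd.2⟩⟩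
    have hYH : H ⊓ centralizer (H : Set G) = zpowers z₀ := hZ
    have hcomm' : ∀ x ∈ H, ∀ y ∈ H, ⁅x, y⁆ ∈ zpowers c := by
      intro x hx y hy
      obtain ⟨d, hd, e⟩ := hHcomm x hx y hy
      have : ⁅x, y⁆ = d := by
        rw [commutatorElement_def, e, hccomm y d hd, mul_inv_cancel_right]
      rwa [this]
    have hpows : ∀ h ∈ H, h ^ p ∈ zpowers (z₀ ^ p) := by
      refine pow_mem_pow hG hsymp H hHc z₀ hYH (fun x hx y hy => ⟨(zpowers_le.2 hcZ) (hcomm' x hx y hy), ?_⟩)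
        hHp (fun h2 x hx y hy => ?_)
      · obtain ⟨i, hi⟩ := mem_zpowers_iff.1 (hcomm' x hx y hy)
        rw [← hi, ← zpow_natCast (c ^ i), ← zpow_mul, mul_comm, zpow_mul, zpow_natCast, hcp, one_zpow]
      · refine (zpowers_le.2 ?_) (hcomm' x hx y hy)
        refine mem_zpowers_iff.2 ⟨(p : ℤ) ^ (n - 2), ?_⟩
        have hn2 : 2 ≤ n := by
          by_contra h
          exact hsmall ⟨h2, by omega⟩
        rw [hc, ← Nat.cast_pow, zpow_natCast, ← pow_mul, ← pow_succ']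
        congr 2; omega
    obtain ⟨L, hLP, hmax⟩ := Set.Finite.exists_maximal
      (Set.toFinite {L : Subgroup G | L ≤ H ∧ c ∈ L ∧ (∀ x ∈ L, x ∈ zpowers z₀ → x ∈ zpowers c) ∧
        (∀ e ∈ L, e ^ p ∈ zpowers c) ∧ L ≤ closure {l | l ∈ L ∧ l ^ p = 1}})
      ⟨zpowers c, zpowers_le.2 hcH, mem_zpowers c, fun x hx _ => hx, fun e he => pow_mem he p,
        zpowers_le.2 (subset_closure ⟨mem_zpowers c, hcp⟩)⟩
    obtain ⟨hLH, hcL, hLZ, hLp, hLg⟩ := hLP
    refine ⟨L, hLH, hcL, ?_, hLZ, hLp, ?_⟩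
    · intro h₀ hh₀
      by_contra hne
      push Not at hne
      obtain ⟨i, hi⟩ := mem_zpowers_iff.1 (hpows h₀ hh₀)
      set h := h₀ * z₀ ^ (-i) with hdef
      have hzi : z₀ ^ (-i) ∈ zpowers z₀ := zpow_mem (mem_zpowers _) _
      have hh : h ∈ H := mul_mem hh₀ (hZH hzi)
      have hh1 : h ^ p = 1 := by
        rw [hdef, (show Commute h₀ (z₀ ^ (-i)) from hHZ h₀ hh₀ _ hzi).mul_pow, ← hi,
          ← zpow_natCast (z₀ ^ (-i)), ← zpow_mul, ← zpow_natCast z₀ p, ← zpow_mul, ← zpow_add,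
          show (p : ℤ) * i + -i * p = 0 by ring, zpow_zero]
      have hnot : ∀ l ∈ L, ∀ z ∈ zpowers z₀, h ≠ l * z := fun l hl z hz e =>
        hne l hl (z * (z₀ ^ (-i))⁻¹) (mul_mem hz (inv_mem hzi)) (by
          rw [← mul_assoc, ← e, hdef, mul_inv_cancel_right])
      let L' : Subgroup G :=
        { carrier := {x | ∃ l ∈ L, ∃ j : ℤ, x = l * h ^ j}
          one_mem' := ⟨1, one_mem _, 0, by simp⟩
          mul_mem' := by
            rintro _ _ ⟨l, hl, j, rfl⟩ ⟨m, hm, k, rfl⟩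
            obtain ⟨d, hd, e⟩ := hHcomm (h ^ j) (zpow_mem hh j) m (hLH hm)
            refine ⟨l * (m * d), mul_mem hl (mul_mem hm ((zpowers_le.2 hcL) hd)), j + k, ?_⟩
            rw [← e, zpow_add]; group
          inv_mem' := by
            rintro _ ⟨l, hl, j, rfl⟩
            obtain ⟨d, hd, e⟩ := hHcomm (h ^ (-j)) (zpow_mem hh _) l⁻¹ (inv_mem (hLH hl))
            refine ⟨l⁻¹ * d, mul_mem (inv_mem hl) ((zpowers_le.2 hcL) hd), -j, ?_⟩
            rw [← e]; group }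
      have hLL' : L ≤ L' := fun l hl => ⟨l, hl, 0, by simp⟩
      have hhL' : h ∈ L' := ⟨1, one_mem _, 1, by simp⟩
      have hmem : L' ∈ {L : Subgroup G | L ≤ H ∧ c ∈ L ∧ (∀ x ∈ L, x ∈ zpowers z₀ → x ∈ zpowers c) ∧
          (∀ e ∈ L, e ^ p ∈ zpowers c) ∧ L ≤ closure {l | l ∈ L ∧ l ^ p = 1}} := by
        refine ⟨?_, hLL' hcL, ?_, ?_, ?_⟩
        · rintro _ ⟨l, hl, j, rfl⟩; exact mul_mem (hLH hl) (zpow_mem hh j)
        · rintro _ ⟨l, hl, j, rfl⟩ hz
          by_cases hpj : (p : ℤ) ∣ j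
          · obtain ⟨t, rfl⟩ := hpj
            rw [zpow_mul, zpow_natCast, hh1, one_zpow, mul_one] at hz ⊢
            exact hLZ l hl hz
          · exfalso
            obtain ⟨u, v, huv⟩ := (Int.isCoprime_iff_nat_coprime (a := (p : ℤ)) (b := j)).2
              ((Nat.Prime.coprime_iff_not_dvd hp).2 fun hh => hpj (Int.natCast_dvd.2 hh))
            refine hnot (l⁻¹ ^ v) (zpow_mem (inv_mem hl) v) ((l * h ^ j) ^ v) (zpow_mem hz v) ?_
            have hcz : Commute (l⁻¹) (l * h ^ j) := hHZ _ (inv_mem (hLH hl)) _ hz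
            rw [← hcz.mul_zpow, inv_mul_cancel_left, ← zpow_mul]
            calc h = h ^ (u * p + v * j) := by rw [huv, zpow_one]
              _ = h ^ (j * v) := by
                rw [zpow_add, mul_comm u, zpow_mul, zpow_natCast, hh1, one_zpow, one_mul, mul_comm v]
        · rintro _ ⟨l, hl, j, rfl⟩
          have hd := hcomm' (h ^ j) (zpow_mem hh j) l (hLH hl)
          have hd1 : ⁅h ^ j, l⁆ ^ p = 1 := by
            obtain ⟨i, hi⟩ := mem_zpowers_iff.1 hd
            rw [← hi, ← zpow_natCast (c ^ i), ← zpow_mul, mul_comm, zpow_mul, zpow_natCast, hcp, one_zpow]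
          have hjp : (h ^ j) ^ p = 1 := by
            rw [← zpow_natCast (h ^ j), ← zpow_mul, mul_comm, zpow_mul, zpow_natCast, hh1, one_zpow]
          rcases mul_pow_prime (hccomm l _ hd).symm (hccomm (h ^ j) _ hd).symm hd1 with e | ⟨-, e⟩
          · rw [e, hjp, mul_one]; exact hLp l hl
          · rw [e, hjp, mul_one]; exact mul_mem (hLp l hl) hd
        · rintro _ ⟨l, hl, j, rfl⟩
          refine mul_mem ((Subgroup.closure_mono ?_) (hLg hl)) (zpow_mem (Subgroup.subset_closure (show h ∈ {l | l ∈ L' ∧ l ^ p = 1} from ⟨hhL', hh1⟩)) j)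
          rintro x ⟨hx, hx'⟩
          exact ⟨hLL' hx, hx'⟩
      exact hnot h ((hmax hmem hLL') hhL') 1 (one_mem _) (mul_one h).symm
    · intro g e he
      have := hLg he
      induction this using closure_induction with
      | mem x hx =>
        obtain ⟨d, hd, e'⟩ := hconjH g x (hLH hx.1)
        refine ⟨d, hΩ d hd (pow_eq_one_of_conj (hHZ x (hLH hx.1) d hd) e' ?_), e'⟩
        rw [hx.2]; group
      | one => exact ⟨1, one_mem _, by group⟩
      | mul a b ha hb iha ihb =>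
        have hsub : closure {l | l ∈ L ∧ l ^ p = 1} ≤ L := (closure_le L).2 fun x hx => hx.1
        obtain ⟨d, hd, ea⟩ := iha (hsub ha)
        obtain ⟨d', hd', eb⟩ := ihb (hsub hb)
        refine ⟨d * d', mul_mem hd hd', ?_⟩
        rw [show g * (a * b) * g⁻¹ = (g * a * g⁻¹) * (g * b * g⁻¹) by group, ea, eb,
          show a * d * (b * d') = a * (d * b) * d' by group, ← hccomm b d hd]
        group
      | inv a ha iha =>
        have hsub : closure {l | l ∈ L ∧ l ^ p = 1} ≤ L := (closure_le L).2 fun x hx => hx.1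
        obtain ⟨d, hd, ea⟩ := iha (hsub ha)
        refine ⟨d⁻¹, inv_mem hd, ?_⟩
        rw [show g * a⁻¹ * g⁻¹ = (g * a * g⁻¹)⁻¹ by group, ea, hccomm a d hd, mul_inv_rev]
  -- the extraspecial case
  have hES : ¬ E₀ ≤ zpowers c → Cfsg.IsExtraspecial p ↥E₀ := by
    intro hne
    have hcenter : center ↥E₀ = (zpowers c).subgroupOf E₀ := by
      refine le_antisymm (fun x hx => ?_) fun x hx => mem_center_iff.2 fun y => Subtype.ext (hccomm y _ hx)
      refine hEZ x x.2 (hCHZ x fun h hh => ?_)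
      obtain ⟨e, he, z, hz, rfl⟩ := hsupp h hh
      have h1 : e * x = x * e := congrArg Subtype.val (mem_center_iff.1 hx ⟨e, he⟩)
      rw [mul_assoc, ← hHZ x (hE₀H x.2) z hz, ← mul_assoc, h1, mul_assoc]
    have hcard : Nat.card (center ↥E₀) = p := by
      rw [hcenter, Nat.card_congr (subgroupOfEquivOfLe (zpowers_le.2 hcE₀)).toEquiv, Nat.card_zpowers, hcord]
    have hcom : commutator ↥E₀ ≤ center ↥E₀ := by
      rw [_root_.commutator_def, commutator_le]
      intro x _ y _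
      obtain ⟨d, hd, e⟩ := hHcomm x (hE₀H x.2) y (hE₀H y.2)
      rw [hcenter, mem_subgroupOf]
      have : ((⁅x, y⁆ : E₀) : G) = d := by
        show (x : G) * y * (x : G)⁻¹ * (y : G)⁻¹ = d
        rw [e, hccomm (y : G) d hd, mul_inv_cancel_right]
      rwa [this]
    have hcomne : commutator ↥E₀ ≠ ⊥ := by
      intro e
      refine hne fun x hx => ?_
      have hx' : (⟨x, hx⟩ : E₀) ∈ center ↥E₀ := mem_center_iff.2 fun y => by
        have := commutator_mem_commutator (mem_top y) (mem_top (⟨x, hx⟩ : E₀))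
        rw [← _root_.commutator_def, e, mem_bot] at this
        exact commutatorElement_eq_one_iff_mul_comm.1 this
      rw [hcenter] at hx'
      exact hx'
    have hceq : commutator ↥E₀ = center ↥E₀ := by
      refine eq_of_le_of_card_ge hcom ?_
      rw [hcard]
      have hd := card_dvd_of_le hcom
      rw [hcard] at hd
      rcases (Nat.dvd_prime hp).1 hd with h1 | h1
      · exact absurd (eq_bot_of_card_eq _ h1) hcomne
      · exact h1.ge
    have hEG : IsPGroup p ↥E₀ := hG.to_subgroup E₀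
    refine ⟨⟨hEG, le_antisymm ?_ ?_, hceq⟩, hcard⟩
    · refine Fusion.frattini_le_of_elementary (p := p) _ hcom fun x => ?_
      rw [hcenter, mem_subgroupOf]
      exact hEp x x.2
    · have := hEG.isNilpotent
      exact hceq ▸ Core.commutator_le_frattini
  set R := centralizer (E₀ : Set G) with hR
  have hsplit : ∀ g : G, ∃ e ∈ E₀, ∃ r ∈ R, g = e * r := by
    intro g
    by_cases hne : E₀ ≤ zpowers c
    · exact ⟨1, one_mem _, g, mem_centralizer_iff.2 fun x hx => (hccomm g x (hne hx)).symm, (one_mul g).symm⟩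
    have hext := hES hne
    have hfm : ∀ x : E₀, (x : G)⁻¹ * (g * x * g⁻¹) ∈ zpowers c := fun x => by
      obtain ⟨d, hd, e⟩ := hEconj g x x.2
      rw [e, inv_mul_cancel_left]; exact hd
    let f : E₀ →* E₀ := MonoidHom.mk'
      (fun x => ⟨(x : G)⁻¹ * (g * x * g⁻¹), (zpowers_le.2 hcE₀) (hfm x)⟩) fun x y => Subtype.ext (by
        show ((x : G) * y)⁻¹ * (g * ((x : G) * y) * g⁻¹) =
          (x : G)⁻¹ * (g * x * g⁻¹) * ((y : G)⁻¹ * (g * y * g⁻¹))
        calc ((x : G) * y)⁻¹ * (g * ((x : G) * y) * g⁻¹) =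
            (y : G)⁻¹ * ((x : G)⁻¹ * (g * x * g⁻¹)) * (g * y * g⁻¹) := by group
          _ = _ := by rw [hccomm (y : G)⁻¹ _ (hfm x)]; group)
    have hf : ∀ x, f x ∈ center ↥E₀ := fun x => mem_center_iff.2 fun y => Subtype.ext (hccomm y _ (hfm x))
    have hfZ : ∀ z ∈ center ↥E₀, f z = 1 := fun z hz => Subtype.ext (by
      have hz' : (z : G) ∈ zpowers c := by
        refine hEZ z z.2 (hCHZ z fun h hh => ?_)
        obtain ⟨e, he, w, hw, rfl⟩ := hsupp h hh
        have h1 : e * z = z * e := congrArg Subtype.val (mem_center_iff.1 hz ⟨e, he⟩)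
        rw [mul_assoc, ← hHZ z (hE₀H z.2) w hw, ← mul_assoc, h1, mul_assoc]
      show (z : G)⁻¹ * (g * z * g⁻¹) = 1
      rw [hccomm g z hz']; group)
    obtain ⟨e₁, -, he₁⟩ := Fusion.es_hom_eq_commutator hext f hf hfZ ⊤ le_top Fusion.es_top_nondeg
    refine ⟨e₁, e₁.2, (e₁ : G)⁻¹ * g, mem_centralizer_iff.2 fun x hx => ?_, (mul_inv_cancel_left _ _).symm⟩
    have h1 : x⁻¹ * (g * x * g⁻¹) = (e₁ : G) * x * (e₁ : G)⁻¹ * x⁻¹ :=
      congrArg Subtype.val (he₁ ⟨x, hx⟩ (mem_top _))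
    have h2 : g * x * g⁻¹ = (e₁ : G) * x * (e₁ : G)⁻¹ := by
      have hm := hfm ⟨x, hx⟩
      calc g * x * g⁻¹ = x * (x⁻¹ * (g * x * g⁻¹)) := by group
        _ = (x⁻¹ * (g * x * g⁻¹)) * x := hccomm x _ hm
        _ = _ := by rw [h1]; group
    calc x * ((e₁ : G)⁻¹ * g) = (e₁ : G)⁻¹ * ((e₁ : G) * x * (e₁ : G)⁻¹) * g := by group
      _ = (e₁ : G)⁻¹ * g * x := by rw [← h2]; group
  have hER : ∀ e ∈ E₀, ∀ r ∈ R, e * r = r * e := fun e he r hr => mem_centralizer_iff.1 hr e he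
  have hZR : zpowers z₀ ≤ R := fun z hz => mem_centralizer_iff.2 fun e he => hHZ e (hE₀H he) z hz
  have hRZ : ∀ r ∈ R, r * z₀ = z₀ * r → r ∈ zpowers z₀ := by
    intro r hr h0
    refine hCHZ r fun h hh => ?_
    obtain ⟨e, he, z, hz, rfl⟩ := hsupp h hh
    obtain ⟨i, rfl⟩ := mem_zpowers_iff.1 hz
    have h1 : Commute r (z₀ ^ i) := (show Commute r z₀ from h0).zpow_right i
    rw [mul_assoc, ← h1.eq, ← mul_assoc, hER e he r hr, mul_assoc]
  have hexp : ∀ g : G, ∃ a : ℤ, g * z₀ * g⁻¹ = z₀ ^ a := fun g => by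
    obtain ⟨a, ha⟩ := mem_zpowers_iff.1 (hZconj g z₀ (mem_zpowers _))
    exact ⟨a, ha.symm⟩
  choose α hα using hexp
  have hαz : ∀ g : G, ∀ i : ℤ, g * z₀ ^ i * g⁻¹ = z₀ ^ (α g * i) := fun g i => by
    rw [← conj_zpow, hα, zpow_mul]
  have hαmul : ∀ g k : G, (g * k) * z₀ * (g * k)⁻¹ = z₀ ^ (α g * α k) := fun g k => by
    calc g * k * z₀ * (g * k)⁻¹ = g * (k * z₀ * k⁻¹) * g⁻¹ := by group
      _ = _ := by rw [hα k, hαz]
  have hαpow : ∀ (g : G) (k : ℕ), g ^ k * z₀ * (g ^ k)⁻¹ = z₀ ^ (α g ^ k) := by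
    intro g k
    induction k with
    | zero => simp
    | succ k ih =>
      rw [pow_succ', pow_succ' (α g)]
      calc g * g ^ k * z₀ * (g * g ^ k)⁻¹ = g * (g ^ k * z₀ * (g ^ k)⁻¹) * g⁻¹ := by group
        _ = _ := by rw [ih, hαz]
  have hzeq : ∀ i j : ℤ, z₀ ^ i = z₀ ^ j ↔ (p : ℤ) ^ n ∣ j - i := by
    intro i j
    rw [zpow_eq_zpow_iff_modEq, hn, Int.modEq_iff_dvd]
    push_cast; rfl
  have hofone : ∀ r ∈ R, (p : ℤ) ^ n ∣ α r - 1 → r ∈ zpowers z₀ := by
    intro r hr hd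
    refine hRZ r hr ?_
    have : z₀ ^ α r = z₀ ^ (1 : ℤ) := (hzeq _ _).2 (by rw [← dvd_neg, neg_sub]; exact hd)
    rw [zpow_one, ← hα] at this
    exact mul_inv_eq_iff_eq_mul.1 this
  have hαsq : ∀ r : G, r ^ p ∈ zpowers z₀ → (p : ℤ) ^ n ∣ α r ^ p - 1 := by
    intro r hr
    obtain ⟨i, hi⟩ := mem_zpowers_iff.1 hr
    have h1 := hαpow r p
    rw [← hi, ((Commute.refl z₀).zpow_left i).eq, mul_inv_cancel_right] at h1
    nth_rewrite 1 [← zpow_one z₀] at h1
    exact (hzeq _ _).1 h1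
  -- no element of `R` outside `Z` centralises `z₀ ^ p`
  have hexcl : 2 ≤ n → (p = 2 → 3 ≤ n) → ∀ r ∈ R, r * z₀ ^ p = z₀ ^ p * r → r ∈ zpowers z₀ := by
    intro hn2 hn3 r hr hrp
    by_contra hrZ
    set X := centralizer (zpowers (z₀ ^ p) : Set G) with hX
    have hmemX : ∀ x : G, x ∈ X ↔ x * z₀ ^ p = z₀ ^ p * x := by
      intro x
      rw [hX, mem_centralizer_iff]
      constructor
      · intro h; exact (h _ (mem_zpowers _)).symm
      · intro h y hy
        obtain ⟨i, rfl⟩ := mem_zpowers_iff.1 hy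
        exact ((show Commute x (z₀ ^ p) from h).zpow_right i).eq.symm
    have hXc : X.Characteristic := by
      refine characteristic_iff_le_comap.2 fun φ x hx => ?_
      rw [mem_comap, MulEquiv.coe_toMonoidHom, hX, mem_centralizer_iff]
      intro y hy
      obtain ⟨i, rfl⟩ := mem_zpowers_iff.1 hy
      have hφz : φ.symm z₀ ∈ zpowers z₀ := hZ.le ((characteristic_iff_le_comap.1 hZc φ.symm) hz₀)
      obtain ⟨j, hj⟩ := mem_zpowers_iff.1 hφz
      have hy' : φ.symm ((z₀ ^ p) ^ i) ∈ zpowers (z₀ ^ p) := by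
        refine mem_zpowers_iff.2 ⟨j * i, ?_⟩
        rw [map_zpow, map_pow, ← hj, zpow_mul]
        congr 1
        rw [← zpow_natCast, ← zpow_natCast, ← zpow_mul, ← zpow_mul, mul_comm]
      have h2 := congrArg φ (mem_centralizer_iff.1 hx _ hy')
      rwa [map_mul, map_mul, MulEquiv.apply_symm_apply] at h2
    have hHX : H ≤ X := fun h hh => (hmemX h).2 (hHZ h hh _ (pow_mem (mem_zpowers _) p))
    have hrX : r ∈ X := (hmemX r).2 hrp
    have hred : ∀ i : ℤ, ∀ s ∈ R, s ∈ X → s * z₀ ^ i = z₀ ^ i * s →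
        (p : ℤ) ∣ i ∨ s ∈ zpowers z₀ := by
      intro i s hs hsX hsi
      refine or_iff_not_imp_left.2 fun hpi => hRZ s hs ?_
      obtain ⟨u, v, huv⟩ := (Int.isCoprime_iff_nat_coprime (a := (p : ℤ)) (b := i)).2
        ((Nat.Prime.coprime_iff_not_dvd hp).2 fun hh => hpi (Int.natCast_dvd.2 hh))
      have e : z₀ = (z₀ ^ p) ^ u * (z₀ ^ i) ^ v := by
        rw [← zpow_natCast, ← zpow_mul, ← zpow_mul, ← zpow_add, mul_comm (p : ℤ), mul_comm i, huv, zpow_one]
      have : Commute s ((z₀ ^ p) ^ u * (z₀ ^ i) ^ v) :=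
        ((show Commute s (z₀ ^ p) from (hmemX s).1 hsX).zpow_right u).mul_right
          ((show Commute s (z₀ ^ i) from hsi).zpow_right v)
      rw [← e] at this
      exact this.eq
    have hsq : ∀ i : ℤ, (p : ℤ) ∣ i → z₀ ^ i ∈ zpowers (z₀ ^ p) := fun i ⟨t, ht⟩ =>
      mem_zpowers_iff.2 ⟨t, by rw [ht, zpow_mul, zpow_natCast]⟩
    have hYX : X ⊓ centralizer (X : Set G) = zpowers (z₀ ^ p) := by
      refine le_antisymm ?_ (zpowers_le.2 ⟨(hmemX _).2 rfl, mem_centralizer_iff.2 fun x hx => (hmemX x).1 hx⟩)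
      rintro y ⟨-, hyC⟩
      have hy : y ∈ zpowers z₀ := hCHZ y fun h hh => mem_centralizer_iff.1 hyC h (hHX hh)
      obtain ⟨i, rfl⟩ := mem_zpowers_iff.1 hy
      exact hsq i ((hred i r hr hrX (mem_centralizer_iff.1 hyC r hrX)).resolve_right hrZ)
    have hcp' : zpowers c ≤ zpowers (z₀ ^ p) := by
      refine zpowers_le.2 ?_
      rw [hc, ← zpow_natCast z₀ (p ^ (n - 1))]
      exact hsq _ (Int.natCast_dvd_natCast.2 (dvd_pow_self p (by omega : n - 1 ≠ 0)))
    have hd1 : ∀ s ∈ X, ∃ d ∈ zpowers c, s * z₀ * s⁻¹ = z₀ * d := by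
      intro s hs
      have hm : z₀⁻¹ * (s * z₀ * s⁻¹) ∈ zpowers z₀ :=
        mul_mem (inv_mem (mem_zpowers _)) (hZconj s z₀ (mem_zpowers _))
      obtain ⟨i, hi⟩ := mem_zpowers_iff.1 hm
      refine ⟨_, hΩ _ hm (pow_eq_one_of_conj (g := s) (x := z₀) ?_ (by group) ?_), by group⟩
      · rw [← hi]; exact (Commute.refl z₀).zpow_right i
      · rw [(hmemX s).1 hs, mul_inv_cancel_right]
    have hRp : ∀ s ∈ R, s ∈ X → s ^ p ∈ zpowers (z₀ ^ p) := by
      intro s hs hsX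
      obtain ⟨d, hd, e⟩ := hd1 s hsX
      have hk : ∀ k : ℕ, s ^ k * z₀ * (s ^ k)⁻¹ = z₀ * d ^ k := by
        intro k
        induction k with
        | zero => simp
        | succ k ih =>
          rw [pow_succ' s]
          calc s * s ^ k * z₀ * (s * s ^ k)⁻¹ = s * (s ^ k * z₀ * (s ^ k)⁻¹) * s⁻¹ := by group
            _ = (s * z₀ * s⁻¹) * (s * d ^ k * s⁻¹) := by rw [ih]; group
            _ = z₀ * d ^ (k + 1) := by
              rw [e, hccomm s _ (pow_mem hd k), mul_inv_cancel_right, mul_assoc, ← pow_succ']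
      have hdp : d ^ p = 1 := by
        obtain ⟨i, rfl⟩ := mem_zpowers_iff.1 hd
        rw [← zpow_natCast (c ^ i), ← zpow_mul, mul_comm, zpow_mul, zpow_natCast, hcp, one_zpow]
      have h1 : s ^ p * z₀ * (s ^ p)⁻¹ = z₀ := by rw [hk, hdp, mul_one]
      obtain ⟨i, hi⟩ := mem_zpowers_iff.1 (hRZ _ (pow_mem hs p) (mul_inv_eq_iff_eq_mul.1 h1))
      rcases hred i s hs hsX (by rw [hi]; exact (Commute.self_pow s p).eq) with h | h
      · exact hi ▸ hsq i h
      · obtain ⟨j, rfl⟩ := mem_zpowers_iff.1 h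
        rw [show (z₀ ^ j) ^ p = z₀ ^ ((p : ℤ) * j) by rw [← zpow_natCast, ← zpow_mul, mul_comm]]
        exact hsq _ ⟨j, rfl⟩
    have hRc : ∀ s ∈ R, s ∈ X → ∀ t ∈ R, t ∈ X → ⁅s, t⁆ ∈ zpowers c := by
      intro s hs hsX t ht htX
      have hd : t⁻¹ * (s * t * s⁻¹) ∈ zpowers z₀ := by
        refine hRZ _ (mul_mem (inv_mem ht) (mul_mem (mul_mem hs ht) (inv_mem hs))) ?_
        obtain ⟨d, hd, e⟩ := hd1 s hsX
        obtain ⟨d', hd', e'⟩ := hd1 t htX
        have s1 : s * z₀ = z₀ * d * s := mul_inv_eq_iff_eq_mul.1 e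
        have t1 : t * z₀ = z₀ * d' * t := mul_inv_eq_iff_eq_mul.1 e'
        have s1' : s⁻¹ * z₀ = z₀ * d⁻¹ * s⁻¹ := by
          calc s⁻¹ * z₀ = s⁻¹ * (z₀ * d * s) * s⁻¹ * d⁻¹ := by group
            _ = z₀ * (s⁻¹ * d⁻¹) := by rw [← s1]; group
            _ = _ := by rw [hccomm s⁻¹ _ (inv_mem hd)]; group
        have t1' : t⁻¹ * z₀ = z₀ * d'⁻¹ * t⁻¹ := by
          calc t⁻¹ * z₀ = t⁻¹ * (z₀ * d' * t) * t⁻¹ * d'⁻¹ := by group
            _ = z₀ * (t⁻¹ * d'⁻¹) := by rw [← t1]; group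
            _ = _ := by rw [hccomm t⁻¹ _ (inv_mem hd')]; group
        calc t⁻¹ * (s * t * s⁻¹) * z₀ = t⁻¹ * s * t * (s⁻¹ * z₀) := by group
          _ = t⁻¹ * s * (t * z₀) * d⁻¹ * s⁻¹ := by rw [s1']; group
          _ = t⁻¹ * (s * z₀) * d' * t * d⁻¹ * s⁻¹ := by rw [t1]; group
          _ = (t⁻¹ * z₀) * (d * (s * d')) * t * d⁻¹ * s⁻¹ := by rw [s1]; group
          _ = z₀ * d'⁻¹ * t⁻¹ * (d * (d' * s)) * t * d⁻¹ * s⁻¹ := by rw [t1', hccomm s d' hd']
          _ = z₀ * (d'⁻¹ * (t⁻¹ * (d * d'))) * (s * t * d⁻¹) * s⁻¹ := by group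
          _ = z₀ * (d'⁻¹ * ((d * d') * t⁻¹)) * (d⁻¹ * (s * t)) * s⁻¹ := by
            rw [hccomm t⁻¹ _ (mul_mem hd hd'), hccomm (s * t) _ (inv_mem hd)]
          _ = z₀ * (d'⁻¹ * (d * d')) * ((t⁻¹ * d⁻¹) * (s * t)) * s⁻¹ := by group
          _ = z₀ * (d'⁻¹ * (d' * d)) * ((d⁻¹ * t⁻¹) * (s * t)) * s⁻¹ := by
            rw [hccomm d _ hd', hccomm t⁻¹ _ (inv_mem hd)]
          _ = _ := by group
      set d := t⁻¹ * (s * t * s⁻¹) with hddef
      have e : s * t * s⁻¹ = t * d := by rw [hddef]; group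
      have hsp : s * t ^ p * s⁻¹ = t ^ p := by
        obtain ⟨i, hi⟩ := mem_zpowers_iff.1 (hRp t ht htX)
        have : Commute s ((z₀ ^ p) ^ i) := (show Commute s (z₀ ^ p) from (hmemX s).1 hsX).zpow_right i
        rw [← hi, this.eq, mul_inv_cancel_right]
      obtain ⟨dt, hdt, et⟩ := hd1 t htX
      have hcdt : ⁅d, t⁆ ∈ zpowers c ∧ ⁅d, t⁆ ^ p = 1 := by
        obtain ⟨i, hi⟩ := mem_zpowers_iff.1 hd
        have : t * d * t⁻¹ = d * dt ^ i := by
          rw [← hi, ← conj_zpow, et, (show Commute z₀ dt from hccomm z₀ dt hdt).mul_zpow]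
        have h3 : ⁅d, t⁆ = (dt ^ i)⁻¹ := by
          rw [commutatorElement_def,
            show d * t * d⁻¹ * t⁻¹ = d * (t * d * t⁻¹)⁻¹ by group, this, mul_inv_rev, ← mul_assoc,
            hccomm d _ (inv_mem (zpow_mem hdt i)), mul_assoc, mul_inv_cancel, mul_one]
        refine ⟨h3 ▸ inv_mem (zpow_mem hdt i), ?_⟩
        obtain ⟨j, hj⟩ := mem_zpowers_iff.1 (h3 ▸ inv_mem (zpow_mem hdt i) : ⁅d, t⁆ ∈ zpowers c)
        rw [← hj, ← zpow_natCast (c ^ j), ← zpow_mul, mul_comm, zpow_mul, zpow_natCast, hcp, one_zpow]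
      have key := mul_pow_prime (x := t) (y := d) (hccomm t _ hcdt.1).symm (hccomm d _ hcdt.1).symm hcdt.2
      have hconj := conj_pow (a := s) (b := t) (i := p)
      rw [e, hsp] at hconj
      have hdc : d ∈ zpowers c := by
        rcases key with k | ⟨h22, k⟩
        · rw [k] at hconj
          exact hΩ d hd (mul_eq_left.1 hconj)
        · rw [k, mul_assoc] at hconj
          have h4 : d ^ p * ⁅d, t⁆ = 1 := mul_eq_left.1 hconj
          have h5 : d ^ (p * p) = 1 := by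
            rw [pow_mul, eq_inv_of_mul_eq_one_left h4, inv_pow, hcdt.2, inv_one]
          obtain ⟨i, hi⟩ := mem_zpowers_iff.1 hd
          have hi2 : (p : ℤ) ∣ i := by
            rw [← hi, ← zpow_natCast, ← zpow_mul, ← zpow_zero z₀, hzeq, zero_sub, dvd_neg] at h5
            have h3' : ((p : ℤ) * p) * p ∣ i * ((p * p : ℕ) : ℤ) := by
              refine (Dvd.dvd.trans ?_ h5)
              rw [← pow_two, ← pow_succ]
              exact pow_dvd_pow _ (hn3 h22)
            push_cast at h3'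
            rw [mul_comm i] at h3'
            exact (mul_dvd_mul_iff_left (mul_ne_zero (by exact_mod_cast hp.ne_zero)
              (by exact_mod_cast hp.ne_zero))).1 h3'
          have h6 : ⁅d, t⁆ = 1 := by
            obtain ⟨j, hj⟩ := hi2
            have : Commute t d := by
              rw [← hi, hj, zpow_mul, zpow_natCast]
              exact (show Commute t (z₀ ^ p) from (hmemX t).1 htX).zpow_right j
            exact commutatorElement_eq_one_iff_mul_comm.2 this.symm.eq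
          rw [h6, mul_one] at h4
          exact hΩ d hd h4
      rw [commutatorElement_def, e, hccomm t d hdc, mul_inv_cancel_right]
      exact hdc
    have hXsplit : ∀ x ∈ X, ∃ e ∈ E₀, ∃ s, s ∈ R ∧ s ∈ X ∧ x = e * s := by
      intro x hx
      obtain ⟨e, he, s, hs, rfl⟩ := hsplit x
      refine ⟨e, he, s, hs, ?_, rfl⟩
      have := X.mul_mem (X.inv_mem (hHX (hE₀H he))) hx
      rwa [inv_mul_cancel_left] at this
    have hcc : ∀ x ∈ X, ∀ y ∈ X, ⁅x, y⁆ ∈ zpowers c := by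
      intro x hx y hy
      obtain ⟨e, he, s, hs, hsX, rfl⟩ := hXsplit x hx
      obtain ⟨f, hf, t, ht, htX, rfl⟩ := hXsplit y hy
      have h1 := hRc s hs hsX t ht htX
      obtain ⟨d, hd, hef⟩ := hHcomm e (hE₀H he) f (hE₀H hf)
      rw [commutatorElement_def] at h1
      have : ⁅e * s, f * t⁆ = d * (s * t * s⁻¹ * t⁻¹) := by
        calc ⁅e * s, f * t⁆ = e * (s * f) * t * s⁻¹ * e⁻¹ * t⁻¹ * f⁻¹ := by
              rw [commutatorElement_def]; group
          _ = e * (f * s) * t * (s⁻¹ * e⁻¹) * t⁻¹ * f⁻¹ := by rw [hER f hf s hs]; group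
          _ = e * f * (s * t * (e⁻¹ * (s⁻¹ * t⁻¹))) * f⁻¹ := by
              rw [← hER e⁻¹ (inv_mem he) s⁻¹ (inv_mem hs)]; group
          _ = e * f * (e⁻¹ * (s * t) * (s⁻¹ * t⁻¹)) * f⁻¹ := by
              rw [hER e⁻¹ (inv_mem he) (s * t) (mul_mem hs ht)]; group
          _ = (e * f * e⁻¹) * ((s * t * s⁻¹ * t⁻¹) * f⁻¹) := by group
          _ = (f * d) * (f⁻¹ * (s * t * s⁻¹ * t⁻¹)) := by rw [hef, hccomm f⁻¹ _ h1]
          _ = _ := by rw [hccomm f d hd]; group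
      rw [this]
      exact mul_mem hd h1
    have hpX : ∀ x ∈ X, x ^ p ∈ zpowers (z₀ ^ p) := by
      intro x hx
      obtain ⟨e, he, s, hs, hsX, rfl⟩ := hXsplit x hx
      rw [(show Commute e s from hER e he s hs).mul_pow]
      exact mul_mem (hcp' (hEp e he)) (hRp s hs hsX)
    have hfin := pow_mem_pow hG hsymp X hXc (z₀ ^ p) hYX (fun x hx y hy => ⟨hcp' (hcc x hx y hy), by
      obtain ⟨i, hi⟩ := mem_zpowers_iff.1 (hcc x hx y hy)
      rw [← hi, ← zpow_natCast (c ^ i), ← zpow_mul, mul_comm, zpow_mul, zpow_natCast, hcp, one_zpow]⟩)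
      hpX (fun h22 x hx y hy => by
        refine (zpowers_le.2 ?_) (hcc x hx y hy)
        refine mem_zpowers_iff.2 ⟨(p : ℤ) ^ (n - 3), ?_⟩
        have := hn3 h22
        rw [hc, ← Nat.cast_pow, zpow_natCast, ← pow_mul, ← pow_mul]
        congr 1
        rw [show n - 1 = n - 3 + 2 by omega, pow_add]; ring)
      z₀ (hHX (hZH (mem_zpowers _)))
    obtain ⟨k, hk⟩ := mem_zpowers_iff.1 hfin
    have h7 : z₀ ^ ((p : ℤ) * p * k) = z₀ ^ (p : ℤ) := by
      rw [mul_assoc, zpow_mul, zpow_mul, zpow_natCast, zpow_natCast]; exact hk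
    have h8 : (p : ℤ) * p ∣ p - p * p * k := by
      refine Dvd.dvd.trans ?_ ((hzeq _ _).1 h7)
      rw [← pow_two]; exact pow_dvd_pow _ hn2
    rw [dvd_sub_left (dvd_mul_right _ _)] at h8
    have h9 : p * p ≤ p := Nat.le_of_dvd hp.pos (by exact_mod_cast h8)
    exact absurd h9 (by nlinarith [hp.two_le])
  -- conclusion
  have htop : E₀ ⊔ R = ⊤ := eq_top_iff.2 fun g _ => by
    obtain ⟨e, he, r, hr, rfl⟩ := hsplit g
    exact mul_mem_sup he hr
  obtain ⟨E, hE1, hE2, hE3⟩ : ∃ E : Subgroup G, E ⊔ R = ⊤ ∧ (∀ e ∈ E, ∀ r ∈ R, e * r = r * e) ∧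
      (E = ⊥ ∨ Cfsg.IsExtraspecial p ↥E) := by
    by_cases hne : E₀ ≤ zpowers c
    · refine ⟨⊥, ?_, fun e he r _ => by rw [mem_bot] at he; subst he; simp, Or.inl rfl⟩
      rw [bot_sup_eq, ← htop, eq_comm, sup_eq_right]
      exact hne.trans ((zpowers_le.2 hcZ).trans hZR)
    · exact ⟨E₀, htop, hER, Or.inr (hES hne)⟩
  by_cases hRle : R ≤ zpowers z₀
  · exact ⟨E, R, hE2, hE1, hE3, Or.inl (isCyclic_of_le_zpowers hRle)⟩
  obtain ⟨r₀, hr₀, hr₀Z⟩ := SetLike.not_le_iff_exists.1 hRle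
  have hlift : ∀ r ∈ R, r ∉ zpowers z₀ → ∃ k : ℕ, r ^ p ^ k ∉ zpowers z₀ ∧ (r ^ p ^ k) ^ p ∈ zpowers z₀ := by
    intro r _ hrZ
    have hex : ∃ k : ℕ, r ^ p ^ k ∈ zpowers z₀ := by
      obtain ⟨k, hk⟩ := hG r
      exact ⟨k, hk ▸ one_mem _⟩
    have hne : Nat.find hex ≠ 0 := fun h0 => hrZ (by
      have := Nat.find_spec hex; rwa [h0, pow_zero, pow_one] at this)
    refine ⟨Nat.find hex - 1, Nat.find_min hex (by omega), ?_⟩
    rw [← pow_mul, ← pow_succ, Nat.sub_add_cancel (Nat.one_le_iff_ne_zero.2 hne)]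
    exact Nat.find_spec hex
  have hn2 : 2 ≤ n := by
    by_contra h
    refine hr₀Z (hRZ r₀ hr₀ (hccomm r₀ z₀ ?_))
    rw [hc, show n - 1 = 0 by omega, pow_zero, pow_one]
    exact mem_zpowers _
  have hcommp : ∀ r : G, (p : ℤ) ^ (n - 1) ∣ α r - 1 → r * z₀ ^ p = z₀ ^ p * r := by
    intro r hd
    refine mul_inv_eq_iff_eq_mul.1 ?_
    rw [← zpow_natCast, hαz, hzeq, show (p : ℤ) - α r * p = -((α r - 1) * p) by ring, dvd_neg,
      show n = n - 1 + 1 by omega, pow_succ]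
    exact mul_dvd_mul_right hd _
  have hp2 : p = 2 := by
    by_contra hp2
    obtain ⟨k, hk1, hk2⟩ := hlift r₀ hr₀ hr₀Z
    have hs := pow_mem hr₀ (p ^ k)
    exact hk1 (hexcl hn2 (fun h => absurd h hp2) _ hs (hcommp _ (odd_unit hp2 (by omega) (hαsq _ hk2))))
  subst hp2
  push_cast at hzeq hofone hαsq hcommp
  have hodd : ∀ g : G, α g % 2 = 1 := by
    intro g
    have : z₀ ^ (α g * α g⁻¹) = z₀ ^ (1 : ℤ) := by rw [← hαmul g g⁻¹]; simp
    have h' := (hzeq _ _).1 this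
    have h2 : (2 : ℤ) ∣ 1 - α g * α g⁻¹ := (dvd_pow_self 2 (by omega : n ≠ 0)).trans h'
    rcases Int.even_or_odd (α g) with ⟨u, hu⟩ | ⟨u, hu⟩
    · rw [hu, show 1 - (u + u) * α g⁻¹ = 1 - 2 * (u * α g⁻¹) by ring] at h2; omega
    · omega
  have hα4 : ∀ g k : G, (4 : ℤ) ∣ α (g * k) - α g * α k := by
    intro g k
    have : z₀ ^ (α g * α k) = z₀ ^ (α (g * k)) := by rw [← hαmul, hα]
    refine Dvd.dvd.trans ?_ ((hzeq _ _).1 this)
    exact (by norm_num : (4 : ℤ) = 2 ^ 2) ▸ pow_dvd_pow 2 hn2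
  have hneg : ∀ r ∈ R, r ∉ zpowers z₀ → α r % 4 = 3 := by
    intro r hr hrZ
    by_contra h4
    have h1 : (4 : ℤ) ∣ α r - 1 := by have := hodd r; omega
    rcases eq_or_lt_of_le hn2 with h2 | h3
    · exact hrZ (hofone r hr (by rw [← h2]; norm_num; exact h1))
    obtain ⟨k, hk1, hk2⟩ := hlift r hr hrZ
    set s := r ^ 2 ^ k with hs
    have hsR : s ∈ R := pow_mem hr _
    have hs4 : (4 : ℤ) ∣ α s - 1 := by
      have hpw : z₀ ^ (α r ^ 2 ^ k) = z₀ ^ α s := by rw [← hαpow, hα]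
      have ha : (4 : ℤ) ∣ α s - α r ^ 2 ^ k :=
        ((by norm_num : (4 : ℤ) = 2 ^ 2) ▸ pow_dvd_pow 2 hn2).trans ((hzeq _ _).1 hpw)
      have hb : (4 : ℤ) ∣ α r ^ 2 ^ k - 1 := h1.trans (sub_one_dvd_pow_sub_one _ _)
      have := dvd_add ha hb
      rwa [sub_add_sub_cancel] at this
    have h2n : (4 : ℤ) ∣ 2 ^ n := (by norm_num : (4 : ℤ) = 2 ^ 2) ▸ pow_dvd_pow 2 hn2
    have h2n1 : (4 : ℤ) ∣ 2 ^ (n - 1) := (by norm_num : (4 : ℤ) = 2 ^ 2) ▸ pow_dvd_pow 2 (by omega)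
    rcases MaxClass.sqrt_one_cases hn2 (hαsq s hk2) with h | h | h | h
    · exact hk1 (hofone s hsR h)
    · have := h2n.trans h; omega
    · refine hk1 (hexcl hn2 (fun _ => h3) s hsR (hcommp s ?_))
      have h' : (2 : ℤ) ^ (n - 1) ∣ α s - (1 + 2 ^ (n - 1)) := (pow_dvd_pow 2 (by omega)).trans h
      have := dvd_add h' (dvd_refl ((2 : ℤ) ^ (n - 1)))
      rwa [show α s - (1 + 2 ^ (n - 1)) + 2 ^ (n - 1) = α s - 1 by ring] at this
    · have := h2n.trans h; omega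
  have hmulZ : ∀ r ∈ R, r ∉ zpowers z₀ → ∀ s ∈ R, s ∉ zpowers z₀ → r * s ∈ zpowers z₀ := by
    intro r hr hrZ s hs hsZ
    by_contra h
    have a1 := hneg r hr hrZ
    have a2 := hneg s hs hsZ
    have a3 := hneg (r * s) (mul_mem hr hs) h
    have a4 := Int.emod_eq_emod_iff_emod_sub_eq_zero.2 (Int.emod_eq_zero_of_dvd (hα4 r s))
    rw [Int.mul_emod, a1, a2, a3] at a4
    norm_num at a4
  have hr₀2 : r₀ * r₀ ∈ zpowers z₀ := hmulZ r₀ hr₀ hr₀Z r₀ hr₀ hr₀Z
  rcases eq_or_lt_of_le hn2 with h2 | h3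
  · -- the whole group is extraspecial
    have hcsq : c = z₀ ^ 2 := by rw [hc, ← h2]; norm_num
    have heven : ∀ r ∈ R, r ∉ zpowers z₀ → ∀ i : ℤ, r * z₀ ^ i = z₀ ^ i * r → z₀ ^ i ∈ zpowers c := by
      intro r hr hrZ i hi
      rw [hcsq]
      refine zpow_mem_sq ?_
      have : z₀ ^ (α r * i) = z₀ ^ i := by rw [← hαz, hi, mul_inv_cancel_right]
      have h' := (hzeq _ _).1 this
      rw [← h2, show i - α r * i = -((α r - 1) * i) by ring, dvd_neg] at h'
      norm_num at h'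
      obtain ⟨q, hq⟩ : ∃ q, α r - 1 = 2 * q ∧ q % 2 = 1 := ⟨(α r - 1) / 2, by have := hneg r hr hrZ; omega⟩
      rw [hq.1, show (4 : ℤ) = 2 * 2 by norm_num, mul_assoc, mul_dvd_mul_iff_left (by norm_num)] at h'
      rcases Int.prime_two.dvd_or_dvd h' with h'' | h''
      · omega
      · exact h''
    have hRsq : ∀ s ∈ R, s * s ∈ zpowers c := by
      intro s hs
      by_cases hsZ : s ∈ zpowers z₀
      · obtain ⟨i, rfl⟩ := mem_zpowers_iff.1 hsZ
        rw [hcsq, ← zpow_add]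
        exact zpow_mem_sq ⟨i, by ring⟩
      · obtain ⟨i, hi⟩ := mem_zpowers_iff.1 (hmulZ s hs hsZ s hs hsZ)
        rw [← hi]
        exact heven s hs hsZ i (by rw [hi]; group)
    have hsq : ∀ x : G, x * x ∈ zpowers c := by
      intro x
      obtain ⟨e, he, s, hs, rfl⟩ := hsplit x
      have := hEp e he
      rw [pow_two] at this
      rw [show e * s * (e * s) = e * (s * e) * s by group, ← hER e he s hs,
        show e * (e * s) * s = e * e * (s * s) by group]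
      exact mul_mem this (hRsq s hs)
    have hinv : ∀ x : G, x⁻¹ ∈ (fun d => x * d) '' (zpowers c : Set G) := fun x =>
      ⟨(x * x)⁻¹, inv_mem (hsq x), by group⟩
    have hcom : commutator G ≤ zpowers c := by
      rw [_root_.commutator_def, commutator_le]
      intro x _ y _
      obtain ⟨d₁, h₁, e₁⟩ := hinv x
      obtain ⟨d₂, h₂, e₂⟩ := hinv y
      simp only at e₁ e₂
      rw [commutatorElement_def, ← e₁, ← e₂, show x * y * (x * d₁) * (y * d₂) = (x * y * x) * (d₁ * y) * d₂ by group,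
        ← hccomm y d₁ h₁, show x * y * x * (y * d₁) * d₂ = (x * y * (x * y)) * (d₁ * d₂) by group]
      exact mul_mem (hsq _) (mul_mem h₁ h₂)
    have hcenter : center G = zpowers c := by
      refine le_antisymm (fun x hx => ?_) hcen
      obtain ⟨i, rfl⟩ := mem_zpowers_iff.1 (hCHZ x fun h _ => mem_center_iff.1 hx h)
      exact heven r₀ hr₀ hr₀Z i (mem_center_iff.1 hx r₀)
    have hcard : Nat.card (center G) = 2 := by rw [hcenter, Nat.card_zpowers, hcord]
    have hceq : commutator G = center G := by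
      refine eq_of_le_of_card_ge (hcenter ▸ hcom) ?_
      rw [hcard]
      have hd := card_dvd_of_le (hcenter ▸ hcom : commutator G ≤ center G)
      rw [hcard] at hd
      rcases (Nat.dvd_prime hp).1 hd with h1 | h1
      · exfalso
        have hb : commutator G = ⊥ := eq_bot_of_card_eq _ h1
        have hc1' := commutator_mem_commutator (mem_top r₀) (mem_top z₀)
        rw [← _root_.commutator_def, hb, mem_bot] at hc1'
        exact hr₀Z (hRZ r₀ hr₀ (commutatorElement_eq_one_iff_mul_comm.1 hc1'))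
      · exact h1.ge
    have hGE : Cfsg.IsExtraspecial 2 G := by
      refine ⟨⟨hG, le_antisymm ?_ ?_, hceq⟩, hcard⟩
      · refine Fusion.frattini_le_of_elementary (p := 2) _ hceq.le fun x => ?_
        rw [hcenter, pow_two]; exact hsq x
      · have := hG.isNilpotent
        exact hceq ▸ Core.commutator_le_frattini
    refine ⟨⊤, ⊥, fun e _ r hr => by rw [mem_bot] at hr; subst hr; simp, by simp, Or.inr ?_,
      Or.inl inferInstance⟩
    refine ⟨⟨hG.to_subgroup ⊤, ?_, ?_⟩, ?_⟩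
    all_goals
      have hsurj : Function.Surjective ((Subgroup.topEquiv : (⊤ : Subgroup G) ≃* G).symm.toMonoidHom) :=
        MulEquiv.surjective _
    · have hcm : (center G).map (Subgroup.topEquiv : (⊤ : Subgroup G) ≃* G).symm.toMonoidHom = center ↥(⊤ : Subgroup G) := by
        ext x
        rw [mem_map, mem_center_iff]
        constructor
        · rintro ⟨y, hy, rfl⟩ ⟨a, -⟩
          exact Subtype.ext (mem_center_iff.1 hy a)
        · intro hx
          exact ⟨x, mem_center_iff.2 fun a => congrArg Subtype.val (hx ⟨a, mem_top a⟩), rfl⟩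
      refine le_antisymm ?_ ?_
      · rw [← hcm]
        refine Fusion.frattini_le_of_elementary (p := 2) _ ?_ fun x => ?_
        · rw [← hceq]
          refine le_of_eq ?_
          rw [_root_.commutator_def, _root_.commutator_def, map_commutator,
            ← MonoidHom.range_eq_map, MonoidHom.range_eq_top.2 hsurj]
        · rw [hcenter]
          exact ⟨(x : G) * x, hsq x, by ext; simp [pow_two]⟩
      · rw [← hcm, ← hGE.1.2.1]
        exact Core.map_frattini_le_of_surjective hsurj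
    · rw [_root_.commutator_def, ← MonoidHom.range_eq_top.2 hsurj, MonoidHom.range_eq_map,
        ← map_commutator, ← _root_.commutator_def, hceq]
      ext x
      rw [mem_map, mem_center_iff]
      constructor
      · rintro ⟨y, hy, rfl⟩ ⟨a, -⟩
        exact Subtype.ext (mem_center_iff.1 hy a)
      · intro hx
        exact ⟨x, mem_center_iff.2 fun a => congrArg Subtype.val (hx ⟨a, mem_top a⟩), rfl⟩
    · rw [← hcard]
      exact Nat.card_congr (Subgroup.centerCongr (Subgroup.topEquiv : (⊤ : Subgroup G) ≃* G)).toEquiv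
  · -- `R` has maximal class
    let a : R := ⟨z₀, hZR (mem_zpowers _)⟩
    let b : R := ⟨r₀, hr₀⟩
    have hmema : ∀ x : R, x ∈ zpowers a ↔ (x : G) ∈ zpowers z₀ := by
      intro x
      rw [mem_zpowers_iff, mem_zpowers_iff]
      constructor
      · rintro ⟨i, rfl⟩; exact ⟨i, rfl⟩
      · rintro ⟨i, hi⟩; exact ⟨i, Subtype.ext hi⟩
    have hi : (zpowers a).index = 2 := by
      rw [index_eq_two_iff]
      refine ⟨b, fun x => ?_⟩
      rw [hmema, hmema]
      show Xor ((x : G) * r₀ ∈ zpowers z₀) ((x : G) ∈ zpowers z₀)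
      by_cases hx : (x : G) ∈ zpowers z₀
      · exact Or.inr ⟨hx, fun h => hr₀Z ((Subgroup.mul_mem_cancel_left _ hx).1 h)⟩
      · exact Or.inl ⟨hmulZ x x.2 hx r₀ hr₀ hr₀Z, hx⟩
    have hoa : orderOf a = 2 ^ n := by rw [← Subgroup.orderOf_coe]; exact hn
    have hcardR : Nat.card R = 2 ^ (n + 1) := by
      rw [← card_mul_index (zpowers a), hi, Nat.card_zpowers, hoa, pow_succ]
    have hr : b * a * b⁻¹ = a ^ α r₀ := Subtype.ext (hα r₀)
    have hmc : MaxClass.MC R := by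
      refine MaxClass.mc_of_exponent hcardR hoa hn2 hi (fun h => hr₀Z ((hmema b).1 h)) hr ?_
      have h2n : (4 : ℤ) ∣ 2 ^ n := (by norm_num : (4 : ℤ) = 2 ^ 2) ▸ pow_dvd_pow 2 hn2
      have h2n1 : (4 : ℤ) ∣ 2 ^ (n - 1) := (by norm_num : (4 : ℤ) = 2 ^ 2) ▸ pow_dvd_pow 2 (by omega)
      have := hneg r₀ hr₀ hr₀Z
      rcases MaxClass.sqrt_one_cases hn2 (hαsq r₀ (by rw [pow_two]; exact hr₀2)) with h | h | h | h
      · have := h2n.trans h; omega
      · exact Or.inl h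
      · have := h2n.trans h; omega
      · exact Or.inr ⟨h3, h⟩
    refine ⟨E, R, hE2, hE1, hE3, Or.inr ⟨rfl, ?_, ?_⟩⟩
    · rw [hcardR]
      calc 16 = 2 ^ 4 := rfl
        _ ≤ 2 ^ (n + 1) := Nat.pow_le_pow_right (by norm_num) (by omega)
    · rcases hmc with ⟨k, hk⟩ | ⟨k, hk, a', b', ha', hb', h'⟩ | ⟨k, hk⟩
      · exact Or.inl ⟨_, hk⟩
      · exact Or.inr (Or.inr (MaxClass.isQuasiDihedral_of_data hk ha' hb' h'))
      · exact Or.inr (Or.inl ⟨_, hk⟩)

end Cfsg.Agent.SymplecticType
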