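import Mathlib
import Cfsg.Prelude.Def_ClassificationK
import Cfsg.Agent.SymplecticType.Main
import Cfsg.Agent.Core.Frattini

/-!
# Symplectic type of exponent four: conjugates of the central involution

If `Q = F*(C(z))` is of symplectic type and exponent dividing 4 and `z' = g z g⁻¹ ≠ z` lies in `Q`,
then `z ∈ g Q g⁻¹`.
-/

set_option autoImplicit false

namespace Cfsg.Agent.SymplecticType

open Subgroup
open scoped commutatorElement

universe u

variable {G : Type u} [Group G]

/-- The properties of `Q` that are used. -/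
structure SmallSymp (z : G) (Q : Subgroup G) : Prop where
  sq : z * z = 1
  ne_one : z ≠ 1
  mem : z ∈ Q
  le : ∀ x ∈ Q, Commute x z
  normal : ∀ c : G, Commute c z → ∀ x ∈ Q, c * x * c⁻¹ ∈ Q
  self : ∀ c : G, Commute c z → (∀ x ∈ Q, Commute c x) → c ∈ Q
  comm : ∀ x ∈ Q, ∀ y ∈ Q, ⁅x, y⁆ = 1 ∨ ⁅x, y⁆ = z
  square : ∀ x ∈ Q, x * x = 1 ∨ x * x = z
  central : ∀ x ∈ Q, x * x = 1 → (∀ y ∈ Q, Commute x y) → x = 1 ∨ x = z

/-- The commutator structure of a group of symplectic type and exponent dividing four. -/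
theorem comm_square_of_exponent_four {T : Type u} [Group T] [Finite T]
    (hT : Cfsg.IsOfSymplecticType T) (h4 : ∀ x : T, x ^ 4 = 1) (x y : T) :
    (⁅x, y⁆ ∈ center T ∧ ⁅x, y⁆ * ⁅x, y⁆ = 1) ∧ (x * x ∈ center T ∧ x * x * (x * x) = 1) := by
  haveI : Fact (Nat.Prime 2) := ⟨Nat.prime_two⟩
  obtain ⟨E, R, hER, htop, hE, hR⟩ := hall hT.1 hT.2
  have hRc : IsCyclic R := by
    refine hR.resolve_right ?_
    rintro ⟨-, h16, h⟩
    have hord : ∀ r : R, orderOf r ≤ 4 := fun r => Nat.le_of_dvd (by norm_num)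
      (orderOf_dvd_of_pow_eq_one (Subtype.ext (h4 (r : T))))
    rcases h with ⟨m, ⟨e⟩⟩ | ⟨m, ⟨e⟩⟩ | ⟨n, hn, hc, a, b, ha, -, -⟩
    · have h1 := hord (e.symm (DihedralGroup.r 1))
      rw [e.symm.orderOf_eq, DihedralGroup.orderOf_r_one] at h1
      rw [Nat.card_congr e.toEquiv, DihedralGroup.nat_card] at h16
      omega
    · have h1 := hord (e.symm (QuaternionGroup.a 1))
      rw [e.symm.orderOf_eq, QuaternionGroup.orderOf_a_one] at h1
      rcases Nat.eq_zero_or_pos m with rfl | hm
      · haveI : Finite (QuaternionGroup 0) := Finite.of_equiv _ e.toEquiv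
        have h2 := orderOf_pos (QuaternionGroup.a 1 : QuaternionGroup 0)
        rw [QuaternionGroup.orderOf_a_one] at h2
        omega
      · haveI : NeZero m := ⟨hm.ne'⟩
        rw [Nat.card_congr e.toEquiv, Nat.card_eq_fintype_card, QuaternionGroup.card] at h16
        omega
    · have h1 := hord a
      rw [ha] at h1
      have := Nat.pow_le_pow_right two_pos hn
      omega
  have hdec : ∀ w : T, ∃ e ∈ E, ∃ r ∈ R, w = e * r := by
    intro w
    have hn : R ≤ normalizer (E : Set T) := by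
      intro r hr
      refine mem_normalizer_iff.2 fun e => ⟨fun he => ?_, fun he => ?_⟩
      · rw [← hER e he r hr, mul_inv_cancel_right]; exact he
      · have h1 := hER _ he r hr
        have h2 : e = r * e * r⁻¹ := by
          have h3 : r * e * r⁻¹ * r = r * (r * e * r⁻¹) := h1
          rw [inv_mul_cancel_right] at h3
          exact mul_left_cancel h3
        rw [h2]; exact he
    have hw : w ∈ E ⊔ R := htop ▸ mem_top w
    rw [← SetLike.mem_coe, coe_mul_of_right_le_normalizer_left E R hn] at hw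
    obtain ⟨e, he, r, hr, rfl⟩ := hw
    exact ⟨e, he, r, hr, rfl⟩
  have hRcomm : ∀ a ∈ R, ∀ b ∈ R, Commute a b := fun a ha b hb =>
    congrArg Subtype.val ((IsCyclic.commGroup (α := R)).mul_comm ⟨a, ha⟩ ⟨b, hb⟩)
  have hEdata : ∀ e ∈ E, ∀ e' ∈ E, ((∀ d ∈ E, Commute ⁅e, e'⁆ d) ∧ ⁅e, e'⁆ * ⁅e, e'⁆ = 1) ∧
      ((∀ d ∈ E, Commute (e * e) d)) := by
    intro e he e' he'
    rcases hE with rfl | hE
    · rw [mem_bot] at he he'
      subst he he'
      simp
    · have hZ : ∀ u : E, u ∈ center E → (∀ d ∈ E, Commute (u : T) d) ∧ (u : T) * u = 1 := fun u hu => by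
        refine ⟨fun d hd => (congrArg Subtype.val (mem_center_iff.1 hu ⟨d, hd⟩)).symm, ?_⟩
        have h1 : (⟨u, hu⟩ : center E) ^ 2 = 1 := by
          have h0 := pow_card_eq_one' (x := (⟨u, hu⟩ : center E))
          rwa [hE.2] at h0
        have h2 := congrArg (fun v : center E => ((v : E) : T)) h1
        simpa [pow_two] using h2
      have h1 : ⁅(⟨e, he⟩ : E), ⟨e', he'⟩⁆ ∈ center E := hE.1.2.2 ▸
        commutator_mem_commutator (mem_top _) (mem_top _)
      have h2 : (⟨e, he⟩ : E) * ⟨e, he⟩ ∈ center E := by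
        rw [← hE.1.2.1, ← pow_two]
        exact Core.pow_mem_frattini hE.1.1 _
      exact ⟨hZ _ h1, (hZ _ h2).1⟩
  have hcen : ∀ u : T, (∀ d ∈ E, Commute u d) → (∀ d ∈ R, Commute u d) → u ∈ center T := by
    intro u hu1 hu2
    refine mem_center_iff.2 fun w => ?_
    obtain ⟨d, hd, r, hr, rfl⟩ := hdec w
    exact ((hu1 d hd).mul_right (hu2 r hr)).eq.symm
  obtain ⟨e, he, r, hr, rfl⟩ := hdec x
  obtain ⟨e', he', r', hr', rfl⟩ := hdec y
  have her : ∀ a ∈ E, ∀ b ∈ R, Commute a b := hER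
  have hcom : ⁅e * r, e' * r'⁆ = ⁅e, e'⁆ := by
    rw [commutatorElement_def, commutatorElement_def, mul_inv_rev, mul_inv_rev,
      (her e he r hr).inv_inv.symm.eq, (her e' he' r' hr').inv_inv.symm.eq,
      Commute.mul_mul_mul_comm (her e' he' r hr).symm,
      Commute.mul_mul_mul_comm ((her e⁻¹ (inv_mem he) (r * r') (mul_mem hr hr')).symm),
      Commute.mul_mul_mul_comm ((her e'⁻¹ (inv_mem he') (r * r' * r⁻¹)
        (mul_mem (mul_mem hr hr') (inv_mem hr))).symm),
      (hRcomm r hr r' hr').eq]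
    simp
  have hsq : (e * r) * (e * r) = (e * e) * (r * r) := Commute.mul_mul_mul_comm (her e he r hr).symm e r
  obtain ⟨⟨hc1, hc2⟩, hs1⟩ := hEdata e he e' he'
  refine ⟨?_, ?_, ?_⟩
  · rw [hcom]
    have hcE : ⁅e, e'⁆ ∈ E := by
      rw [commutatorElement_def]
      exact mul_mem (mul_mem (mul_mem he he') (inv_mem he)) (inv_mem he')
    exact ⟨hcen _ hc1 fun d hd => her _ hcE d hd, hc2⟩
  · rw [hsq]
    exact hcen _ (fun d hd => (hs1 d hd).mul_left (her d hd _ (mul_mem hr hr)).symm)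
      (fun d hd => (her _ (mul_mem he he) d hd).mul_left (hRcomm _ (mul_mem hr hr) d hd))
  · have h1 := h4 (e * r)
    rw [pow_succ, pow_succ, pow_succ, pow_one, mul_assoc] at h1
    exact h1

variable {z : G} {Q : Subgroup G}

theorem SmallSymp.conj (h : SmallSymp z Q) (g : G) :
    SmallSymp (g * z * g⁻¹) (Q.map (MulAut.conj g).toMonoidHom) := by
  set φ := (MulAut.conj g).toMonoidHom
  have hφ : Function.Injective φ := (MulAut.conj g).injective
  have hz : φ z = g * z * g⁻¹ := rfl
  rw [← hz]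
  have hs : ∀ c : G, ∃ c', φ c' = c := (MulAut.conj g).surjective
  constructor
  · rw [← map_mul, h.sq, map_one]
  · exact fun e => h.ne_one (hφ (e.trans (map_one φ).symm))
  · exact mem_map_of_mem φ h.mem
  · rintro _ ⟨x, hx, rfl⟩; exact (h.le x hx).map φ
  · rintro c hc _ ⟨x, hx, rfl⟩
    obtain ⟨c, rfl⟩ := hs c
    exact ⟨c * x * c⁻¹, h.normal c (hφ (by rw [map_mul, map_mul]; exact hc)) x hx,
      by rw [map_mul, map_mul, map_inv]⟩
  · intro c hc hx
    obtain ⟨c, rfl⟩ := hs c
    exact mem_map_of_mem φ (h.self c (hφ (by rw [map_mul, map_mul]; exact hc))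
      fun x hx' => hφ (by rw [map_mul, map_mul]; exact hx (φ x) (mem_map_of_mem φ hx')))
  · rintro _ ⟨x, hx, rfl⟩ _ ⟨y, hy, rfl⟩
    rw [← map_commutatorElement]
    exact (h.comm x hx y hy).imp (fun e => by rw [e, map_one]) (fun e => by rw [e])
  · rintro _ ⟨x, hx, rfl⟩
    rw [← map_mul]
    exact (h.square x hx).imp (fun e => by rw [e, map_one]) (fun e => by rw [e])
  · rintro _ ⟨x, hx, rfl⟩ h2 hc
    rw [← map_mul, ← map_one φ] at h2
    exact (h.central x hx (hφ h2) fun y hy => hφ (by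
      rw [map_mul, map_mul]; exact hc (φ y) (mem_map_of_mem φ hy))).imp
      (fun e => by rw [e, map_one]) (fun e => by rw [e])

theorem SmallSymp.commutator_symm (h : SmallSymp z Q) {x y : G} (hx : x ∈ Q) (hy : y ∈ Q) :
    ⁅y, x⁆ = ⁅x, y⁆ := by
  rw [← commutatorElement_inv x y]
  rcases h.comm x hx y hy with e | e <;> rw [e]
  · exact inv_one
  · exact inv_eq_of_mul_eq_one_left h.sq

theorem SmallSymp.commute_commutator (h : SmallSymp z Q) {x y w : G} (hx : x ∈ Q) (hy : y ∈ Q)
    (hw : w ∈ Q) : Commute ⁅x, y⁆ w := by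
  rcases h.comm x hx y hy with e | e <;> rw [e]
  · exact Commute.one_left w
  · exact (h.le w hw).symm

theorem SmallSymp.commutator_mul (h : SmallSymp z Q) {x y w : G} (hx : x ∈ Q) (hy : y ∈ Q)
    (hw : w ∈ Q) : ⁅x * y, w⁆ = ⁅x, w⁆ * ⁅y, w⁆ := by
  rw [show ⁅x * y, w⁆ = x * ⁅y, w⁆ * x⁻¹ * ⁅x, w⁆ by simp only [commutatorElement_def]; group,
    (h.commute_commutator hy hw hx).symm.eq, mul_inv_cancel_right,
    ((h.commute_commutator hy hw (mul_mem (mul_mem (mul_mem hx hw) (inv_mem hx)) (inv_mem hw) :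
      ⁅x, w⁆ ∈ Q)) : Commute ⁅y, w⁆ ⁅x, w⁆).eq]

theorem SmallSymp.commutator_mul_right (h : SmallSymp z Q) {x y w : G} (hx : x ∈ Q) (hy : y ∈ Q)
    (hw : w ∈ Q) : ⁅w, x * y⁆ = ⁅w, x⁆ * ⁅w, y⁆ := by
  rw [h.commutator_symm (mul_mem hx hy) hw, h.commutator_mul hx hy hw, h.commutator_symm hx hw,
    h.commutator_symm hy hw]

theorem SmallSymp.conj_eq (h : SmallSymp z Q) {x y : G} (hx : x ∈ Q) (hy : y ∈ Q)
    (hne : ¬ Commute x y) : x * y * x⁻¹ = z * y := by
  rcases h.comm x hx y hy with e | e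
  · exact absurd (commutatorElement_eq_one_iff_mul_comm.1 e) hne
  · rw [← e, commutatorElement_def, inv_mul_cancel_right]

theorem SmallSymp.exists_not_commute (h : SmallSymp z Q) {x : G} (hx : x ∈ Q) (hx2 : x * x = 1)
    (hx1 : x ≠ 1) (hxz : x ≠ z) : ∃ t ∈ Q, ¬ Commute t x := by
  by_contra! hall
  exact (h.central x hx hx2 fun y hy => (hall y hy).symm).elim hx1 hxz

/-- If the centraliser of a non-central involution is abelian then two commuting non-central
elements have central product. -/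
theorem SmallSymp.mul_central (h : SmallSymp z Q) {a : G} (ha : a ∈ Q) (ha2 : a * a = 1)
    (ha1 : a ≠ 1) (haz : a ≠ z)
    (hab : ∀ x ∈ Q, ∀ y ∈ Q, Commute x a → Commute y a → Commute x y) {q v : G} (hq : q ∈ Q)
    (hv : v ∈ Q) (hqv : Commute q v) (hqn : ∃ w ∈ Q, ¬ Commute q w) (hvn : ∃ w ∈ Q, ¬ Commute v w) :
    ∀ w ∈ Q, Commute (q * v) w := by
  obtain ⟨t, ht, hta⟩ := h.exists_not_commute ha ha2 ha1 haz
  have hC : ∀ x ∈ Q, Commute x a → ¬ Commute x t → ∀ w ∈ Q, Commute (x * a) w := by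
    intro x hx hxa hxt w hw
    have hyt : Commute (x * a) t := by
      rw [← commutatorElement_eq_one_iff_commute, h.commutator_mul hx ha ht]
      rcases h.comm x hx t ht with e | e
      · exact absurd (commutatorElement_eq_one_iff_commute.1 e) hxt
      rcases h.comm a ha t ht with e' | e'
      · exact absurd (commutatorElement_eq_one_iff_commute.1 e').symm hta
      rw [e, e', h.sq]
    have hya : Commute (x * a) a := hxa.mul_left (Commute.refl a)
    by_cases hwa : Commute w a
    · exact hab _ (mul_mem hx ha) w hw hya hwa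
    · have h1 : Commute (t * w) a := by
        rw [← commutatorElement_eq_one_iff_commute, h.commutator_mul ht hw ha]
        rcases h.comm t ht a ha with e | e
        · exact absurd (commutatorElement_eq_one_iff_commute.1 e) hta
        rcases h.comm w hw a ha with e' | e'
        · exact absurd (commutatorElement_eq_one_iff_commute.1 e') hwa
        rw [e, e', h.sq]
      have h2 := (hab _ (mul_mem hx ha) _ (mul_mem ht hw) hya h1)
      have h3 := hyt.inv_right.mul_right h2
      rwa [inv_mul_cancel_left] at h3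
  have key : ∀ x ∈ Q, ∀ y ∈ Q, Commute x a → (∃ w ∈ Q, ¬ Commute x w) → ∃ u, (∀ w ∈ Q, Commute u w) ∧
      x = u * a⁻¹ := by
    intro x hx y _ hxa hxn
    obtain ⟨w, hw, hxw⟩ := hxn
    refine ⟨x * a, hC x hx hxa fun hxt => hxw ?_, (mul_inv_cancel_right x a).symm⟩
    by_cases hwa : Commute w a
    · exact hab x hx w hw hxa hwa
    · have h1 : Commute (t * w) a := by
        rw [← commutatorElement_eq_one_iff_commute, h.commutator_mul ht hw ha]
        rcases h.comm t ht a ha with e | e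
        · exact absurd (commutatorElement_eq_one_iff_commute.1 e) hta
        rcases h.comm w hw a ha with e' | e'
        · exact absurd (commutatorElement_eq_one_iff_commute.1 e') hwa
        rw [e, e', h.sq]
      have h2 := hab _ hx _ (mul_mem ht hw) hxa h1
      have h3 := hxt.inv_right.mul_right h2
      rwa [inv_mul_cancel_left] at h3
  by_cases hqa : Commute q a <;> by_cases hva : Commute v a
  · obtain ⟨u, hu, rfl⟩ := key q hq q hq hqa hqn
    obtain ⟨u', hu', rfl⟩ := key v hv v hv hva hvn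
    intro w hw
    rw [show u * a⁻¹ * (u' * a⁻¹) = u * u' by
      rw [mul_assoc, ← mul_assoc a⁻¹, (hu' a ha).inv_right.symm.eq, mul_assoc u', ← mul_inv_rev, ha2,
        inv_one, mul_one]]
    exact (hu w hw).mul_left (hu' w hw)
  · obtain ⟨u, hu, rfl⟩ := key q hq q hq hqa hqn
    refine absurd ?_ hva
    have h1 : Commute (u⁻¹ * (u * a⁻¹)) v := (hu v hv).inv_left.mul_left hqv
    rw [inv_mul_cancel_left] at h1
    exact (Commute.inv_left_iff.1 h1).symm
  · obtain ⟨u, hu, rfl⟩ := key v hv v hv hva hvn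
    refine absurd ?_ hqa
    have h1 : Commute q (u⁻¹ * (u * a⁻¹)) := ((hu q hq).symm.inv_right).mul_right hqv
    rw [inv_mul_cancel_left] at h1
    exact Commute.inv_right_iff.1 h1
  · by_contra! hn
    have hm : Commute (q * v) a := by
      rw [← commutatorElement_eq_one_iff_commute, h.commutator_mul hq hv ha]
      rcases h.comm q hq a ha with e | e
      · exact absurd (commutatorElement_eq_one_iff_commute.1 e) hqa
      rcases h.comm v hv a ha with e' | e'
      · exact absurd (commutatorElement_eq_one_iff_commute.1 e') hva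
      rw [e, e', h.sq]
    obtain ⟨u, hu, he⟩ := key _ (mul_mem hq hv) q hq hm hn
    refine hqa ?_
    have h1 : Commute q (u⁻¹ * (q * v)) :=
      ((hu q hq).symm.inv_right).mul_right ((Commute.refl q).mul_right hqv)
    rw [he, inv_mul_cancel_left] at h1
    exact Commute.inv_right_iff.1 h1

/-- The main step. -/
theorem SmallSymp.mem_conj (h : SmallSymp z Q) (g : G) (hne : g * z * g⁻¹ ≠ z)
    (hin : g * z * g⁻¹ ∈ Q) : z ∈ Q.map (MulAut.conj g).toMonoidHom := by
  have h' := h.conj g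
  set Q' := Q.map (MulAut.conj g).toMonoidHom
  set z' := g * z * g⁻¹ with hz'
  have hzz' : Commute z z' := (h.le z' hin).symm
  by_contra hzQ'
  obtain ⟨t, ht, htz'⟩ := h.exists_not_commute hin h'.sq h'.ne_one hne
  have htconj : t * z' * t⁻¹ = z * z' := h.conj_eq ht hin htz'
  have htz : t * z * t⁻¹ = z := by rw [(h.le t ht).eq, mul_inv_cancel_right]
  -- no element of `Q'` maps `z` to `z z'`
  have hfix : ∀ q ∈ Q', ⁅q, z⁆ = z' → False := by
    intro q hq hqc
    have hqz : q * z * q⁻¹ = z' * z := by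
      rw [← hqc, commutatorElement_def, inv_mul_cancel_right]
    have hqz' : q * z' * q⁻¹ = z' := by rw [(h'.le q hq).eq, mul_inv_cancel_right]
    set x := t * q * t with hx
    have hxz' : x * z' * x⁻¹ = z := by
      rw [show x * z' * x⁻¹ = t * (q * (t * z' * t⁻¹) * q⁻¹) * t⁻¹ by rw [hx]; group, htconj,
        show q * (z * z') * q⁻¹ = (q * z * q⁻¹) * (q * z' * q⁻¹) by group, hqz, hqz',
        show z' * z * z' = z by rw [mul_assoc, hzz'.eq, ← mul_assoc, h'.sq, one_mul], htz]
    have hxz : x * z * x⁻¹ = z' := by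
      rw [show x * z * x⁻¹ = t * (q * (t * z * t⁻¹) * q⁻¹) * t⁻¹ by rw [hx]; group, htz, hqz,
        show t * (z' * z) * t⁻¹ = (t * z' * t⁻¹) * (t * z * t⁻¹) by group, htconj, htz,
        mul_assoc, ← hzz'.eq, ← mul_assoc, h.sq, one_mul]
    have hgx : Commute (g⁻¹ * x) z := by
      have h1 : x * z = g * z * g⁻¹ * x := mul_inv_eq_iff_eq_mul.1 hxz
      show g⁻¹ * x * z = z * (g⁻¹ * x)
      rw [mul_assoc, h1]; group
    apply hzQ'
    refine ⟨(g⁻¹ * x) * z' * (g⁻¹ * x)⁻¹, h.normal _ hgx z' hin, ?_⟩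
    show g * _ * g⁻¹ = z
    rw [← hxz']; group
  -- `U = C_{Q'}(z)`
  have hUz : ∀ q ∈ Q', (⁅q, z⁆ = 1 ∨ ⁅q, z⁆ = z') → Commute q z := fun q hq hc =>
    commutatorElement_eq_one_iff_commute.1 (hc.resolve_right fun e => hfix q hq e)
  have hzn : ∀ x ∈ Q', z * x * z⁻¹ ∈ Q' := h'.normal z hzz'
  have hvQ : ∀ q ∈ Q', ⁅q, z⁆ ∈ Q' := fun q hq => by
    rw [show ⁅q, z⁆ = q * (z * q⁻¹ * z⁻¹) by simp only [commutatorElement_def]; group]
    exact mul_mem hq (hzn _ (inv_mem hq))
  have hzinv : z⁻¹ = z := inv_eq_of_mul_eq_one_left h.sq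
  have hz'inv : z'⁻¹ = z' := inv_eq_of_mul_eq_one_left h'.sq
  have hv : ∀ q ∈ Q', Commute ⁅q, z⁆ z ∧ ⁅q, z⁆ * ⁅q, z⁆ = 1 ∧ z * q * z⁻¹ = ⁅q, z⁆ * q ∧
      Commute ⁅q, z⁆ q := by
    intro q hq
    set v := ⁅q, z⁆ with hvdef
    have h1 : z * v * z⁻¹ = v⁻¹ := by
      simp only [hvdef, commutatorElement_def, mul_inv_rev, inv_inv, hzinv]
      simp only [mul_assoc, h.sq, mul_one]
    have h2 : ⁅v, z⁆ = v * v := by
      rw [commutatorElement_def, show v * z * v⁻¹ * z⁻¹ = v * (z * v⁻¹ * z⁻¹) by group,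
        show z * v⁻¹ * z⁻¹ = (z * v * z⁻¹)⁻¹ by group, h1, inv_inv]
    have hvz : Commute v z := hUz v (hvQ q hq) (by
      rw [h2]; exact h'.square v (hvQ q hq))
    have hv2 : v * v = 1 := by rw [← h2, commutatorElement_eq_one_iff_commute]; exact hvz
    have hzq : z * q * z⁻¹ = v * q := by
      rw [← inv_eq_of_mul_eq_one_left hv2]
      simp only [hvdef, commutatorElement_def]; group
    refine ⟨hvz, hv2, hzq, ?_⟩
    have h3 : Commute z (q * q) := by
      rcases h'.square q hq with e | e <;> rw [e]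
      · exact Commute.one_right z
      · exact hzz'
    have h4 : (z * q * z⁻¹) * (z * q * z⁻¹) = q * q := by
      rw [show (z * q * z⁻¹) * (z * q * z⁻¹) = z * (q * q) * z⁻¹ by group, h3.eq,
        mul_inv_cancel_right]
    rw [hzq, show v * q * (v * q) = v * (q * v) * q by group] at h4
    have h5 : v * (q * v) = q := mul_right_cancel h4
    show v * q = q * v
    calc v * q = v * (v * (q * v)) := by rw [h5]
      _ = q * v := by rw [← mul_assoc, hv2, one_mul]
  have hinv : ∀ x ∈ Q', ∀ y ∈ Q', ⁅⁅x, z⁆ * x, ⁅y, z⁆ * y⁆ = ⁅x, y⁆ := by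
    intro x hx y hy
    have h3 : Commute z ⁅x, y⁆ := by
      rcases h'.comm x hx y hy with e | e <;> rw [e]
      · exact Commute.one_right z
      · exact hzz'
    rw [← (hv x hx).2.2.1, ← (hv y hy).2.2.1, show ⁅z * x * z⁻¹, z * y * z⁻¹⁆ = z * ⁅x, y⁆ * z⁻¹ by
      simp only [commutatorElement_def]; group, h3.eq, mul_inv_cancel_right]
  -- `C_{Q'}(U) ≤ U`
  have hCU : ∀ w ∈ Q', (∀ u ∈ Q', Commute u z → Commute w u) → Commute w z := by
    intro w hw hwU
    have h1 : ∀ y ∈ Q', ⁅⁅w, z⁆, y⁆ = 1 := by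
      intro y hy
      have hvy := hv y hy
      have hvw := hv w hw
      have hwy : ⁅w, ⁅y, z⁆⁆ = 1 :=
        commutatorElement_eq_one_iff_commute.2 (hwU _ (hvQ y hy) hvy.1)
      have e1 := hinv w hw _ (hvQ y hy)
      rw [commutatorElement_eq_one_iff_commute.2 hvy.1, one_mul,
        h'.commutator_mul (hvQ w hw) hw (hvQ y hy), hwy, mul_one] at e1
      have e2 := hinv w hw y hy
      rw [h'.commutator_mul (hvQ w hw) hw (mul_mem (hvQ y hy) hy),
        h'.commutator_mul_right (hvQ y hy) hy (hvQ w hw), h'.commutator_mul_right (hvQ y hy) hy hw,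
        e1, hwy, one_mul, one_mul, mul_eq_right] at e2
      exact e2
    refine hUz w hw ?_
    exact h'.central _ (hvQ w hw) (hv w hw).2.1 fun y hy =>
      commutatorElement_eq_one_iff_commute.1 (h1 y hy)
  -- `C_Q(z')` acts trivially on `U` modulo `⟨z'⟩`
  have hW : ∀ w ∈ Q, w ∈ Q' → w = 1 ∨ w = z' := by
    intro w hwQ hwQ'
    have hR : ∀ r ∈ Q, Commute r z' → Commute w r := by
      intro r hr hrz
      have h1 : ⁅r, w⁆ ∈ Q' := by
        rw [commutatorElement_def]
        exact mul_mem (h'.normal r hrz w hwQ') (inv_mem hwQ')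
      rcases h.comm r hr w hwQ with e | e
      · exact (commutatorElement_eq_one_iff_commute.1 e).symm
      · exact absurd (e ▸ h1) hzQ'
    obtain ⟨w', hw'Q, hw'Q', hcase, hw't⟩ : ∃ w', w' ∈ Q ∧ w' ∈ Q' ∧ (w' = w ∨ w' = w * z') ∧
        Commute w' t := by
      by_cases hwt : Commute w t
      · exact ⟨w, hwQ, hwQ', Or.inl rfl, hwt⟩
      · refine ⟨w * z', mul_mem hwQ hin, mul_mem hwQ' h'.mem, Or.inr rfl, ?_⟩
        rw [← commutatorElement_eq_one_iff_commute, h.commutator_mul hwQ hin ht]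
        rcases h.comm w hwQ t ht with e | e
        · exact absurd (commutatorElement_eq_one_iff_commute.1 e) hwt
        rcases h.comm z' hin t ht with e' | e'
        · exact absurd (commutatorElement_eq_one_iff_commute.1 e').symm htz'
        rw [e, e', h.sq]
    have hcen : ∀ y ∈ Q, Commute w' y := by
      intro y hy
      have hR' : ∀ r ∈ Q, Commute r z' → Commute w' r := fun r hr hrz => by
        rcases hcase with rfl | rfl
        · exact hR r hr hrz
        · exact (hR r hr hrz).mul_left hrz.symm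
      by_cases hyz : Commute y z'
      · exact hR' y hy hyz
      · have h1 : Commute (t * y) z' := by
          rw [← commutatorElement_eq_one_iff_commute, h.commutator_mul ht hy hin]
          rcases h.comm t ht z' hin with e | e
          · exact absurd (commutatorElement_eq_one_iff_commute.1 e) htz'
          rcases h.comm y hy z' hin with e' | e'
          · exact absurd (commutatorElement_eq_one_iff_commute.1 e') hyz
          rw [e, e', h.sq]
        have h3 := hw't.inv_right.mul_right (hR' _ (mul_mem ht hy) h1)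
        rwa [inv_mul_cancel_left] at h3
    have hsq : w' * w' = 1 := by
      rcases h.square w' hw'Q with e | e
      · exact e
      · exact absurd (e ▸ mul_mem hw'Q' hw'Q') hzQ'
    rcases h.central w' hw'Q hsq hcen with e | e
    · rcases hcase with rfl | rfl
      · exact Or.inl e
      · exact Or.inr (by rw [eq_inv_of_mul_eq_one_left e, hz'inv])
    · exact absurd (e ▸ hw'Q') hzQ'
  have hRU : ∀ r ∈ Q, Commute r z' → ∀ u ∈ Q', Commute u z → ⁅r, u⁆ = 1 ∨ ⁅r, u⁆ = z' := by
    intro r hr hrz u hu huz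
    refine hW _ ?_ ?_
    · rw [show ⁅r, u⁆ = r * (u * r⁻¹ * u⁻¹) by simp only [commutatorElement_def]; group]
      exact mul_mem hr (h.normal u huz _ (inv_mem hr))
    · rw [commutatorElement_def]
      exact mul_mem (h'.normal r hrz u hu) (inv_mem hu)
  suffices hall : ∀ q ∈ Q', Commute q z from hzQ' (h'.self z hzz' fun q hq => (hall q hq).symm)
  by_cases hab : ∀ x ∈ Q, ∀ y ∈ Q, Commute x z' → Commute y z' → Commute x y
  · -- `Q'` has width one
    intro q hq
    have hvq := hv q hq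
    set v := ⁅q, z⁆ with hvdef
    have hvcen : (∀ y ∈ Q', Commute v y) → Commute q z := fun hc =>
      hUz q hq (h'.central v (hvQ q hq) hvq.2.1 hc)
    by_cases hqc : ∀ y ∈ Q', Commute q y
    · refine hvcen fun y hy => ?_
      have hzq : ∀ y ∈ Q', Commute (z * q * z⁻¹) y := by
        intro y hy
        have h1 := hqc _ (hzn y hy)
        have h2 : z * (z * y * z⁻¹) * z⁻¹ = y := by
          rw [hzinv, show z * (z * y * z) * z = (z * z) * y * (z * z) by group, h.sq, one_mul, mul_one]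
        rw [← h2]
        exact (Commute.conj_iff (h := z)).2 h1
      have h3 := (hzq y hy).mul_left (hqc y hy).inv_left
      rwa [hvq.2.2.1, mul_inv_cancel_right] at h3
    by_cases hvc : ∀ y ∈ Q', Commute v y
    · exact hvcen hvc
    push Not at hqc hvc
    exfalso
    -- transfer to `Q'`
    obtain ⟨t', ht', hz't'⟩ := h'.exists_not_commute (x := g * z' * g⁻¹)
      (mem_map_of_mem (MulAut.conj g).toMonoidHom hin)
      (by rw [show g * z' * g⁻¹ * (g * z' * g⁻¹) = g * (z' * z') * g⁻¹ by group, h'.sq]; group)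
      (fun e => h'.ne_one (conj_eq_one_iff.1 e))
      (fun e => hne ((MulAut.conj g).injective e))
    have hab' : ∀ x ∈ Q', ∀ y ∈ Q', Commute x (g * z' * g⁻¹) → Commute y (g * z' * g⁻¹) →
        Commute x y := by
      rintro _ ⟨x, hx, rfl⟩ _ ⟨y, hy, rfl⟩ hxa hya
      exact (Commute.conj_iff (h := g)).2
        (hab x hx y hy ((Commute.conj_iff (h := g)).1 hxa) ((Commute.conj_iff (h := g)).1 hya))
    have hc := h'.mul_central (a := g * z' * g⁻¹)
      (mem_map_of_mem (MulAut.conj g).toMonoidHom hin)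
      (by rw [show g * z' * g⁻¹ * (g * z' * g⁻¹) = g * (z' * z') * g⁻¹ by group, h'.sq]; group)
      (fun e => h'.ne_one (conj_eq_one_iff.1 e))
      (fun e => hne ((MulAut.conj g).injective e)) hab' (hvQ q hq) hq hvq.2.2.2 hvc hqc
    obtain ⟨y, hy, hqy⟩ := hqc
    apply hqy
    -- `v q` is a conjugate of `q`
    have h1 : Commute (z * q * z⁻¹) (z * y * z⁻¹) := by
      rw [hvq.2.2.1]; exact hc _ (hzn y hy)
    exact (Commute.conj_iff (h := z)).1 h1
  · -- two non-commuting elements of `C_Q(z')`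
    push Not at hab
    obtain ⟨r, hr, s, hs, hrz, hsz, hrs⟩ := hab
    have hrsz : r * s = z * (s * r) := by
      rcases h.comm r hr s hs with e | e
      · exact absurd (commutatorElement_eq_one_iff_commute.1 e) hrs
      · rw [← e, commutatorElement_def]; group
    have hact : ∀ r ∈ Q, Commute r z' → ∀ q ∈ Q',
        ⁅r, q⁆ ∈ Q' ∧ Commute ⁅r, q⁆ z := by
      intro r hr hrz q hq
      have ha : ⁅r, q⁆ ∈ Q' := by
        rw [commutatorElement_def]
        exact mul_mem (h'.normal r hrz q hq) (inv_mem hq)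
      refine ⟨ha, hCU _ ha fun u hu huz => ?_⟩
      have hru := hRU r hr hrz u hu huz
      have hcu : ⁅r, u⁆ ∈ Q' := by
        rcases hru with e | e <;> rw [e]
        exacts [one_mem _, h'.mem]
      have e1 : ⁅⁅r, q⁆ * q, ⁅r, u⁆ * u⁆ = ⁅q, u⁆ := by
        rw [show ⁅r, q⁆ * q = r * q * r⁻¹ by simp only [commutatorElement_def]; group,
          show ⁅r, u⁆ * u = r * u * r⁻¹ by simp only [commutatorElement_def]; group,
          show ⁅r * q * r⁻¹, r * u * r⁻¹⁆ = r * ⁅q, u⁆ * r⁻¹ by
            simp only [commutatorElement_def]; group]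
        have h3 : Commute r ⁅q, u⁆ := by
          rcases h'.comm q hq u hu with e | e <;> rw [e]
          · exact Commute.one_right r
          · exact hrz
        rw [h3.eq, mul_inv_cancel_right]
      have hc1 : ∀ w ∈ Q', ⁅w, ⁅r, u⁆⁆ = 1 := fun w hw => by
        rw [commutatorElement_eq_one_iff_commute]
        rcases hru with e | e <;> rw [e]
        exacts [Commute.one_right w, h'.le w hw]
      rw [h'.commutator_mul_right hcu hu (mul_mem ha hq), hc1 _ (mul_mem ha hq), one_mul,
        h'.commutator_mul ha hq hu, mul_eq_right] at e1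
      exact commutatorElement_eq_one_iff_commute.1 e1
    intro X hX
    set q := (s * r)⁻¹ * X * (s * r) with hqdef
    have hq : q ∈ Q' := by
      have := h'.normal (s * r)⁻¹ ((hsz.mul_left hrz).inv_left) X hX
      rwa [inv_inv] at this
    obtain ⟨ha, haz⟩ := hact r hr hrz q hq
    obtain ⟨hb, hbz⟩ := hact s hs hsz q hq
    set a := ⁅r, q⁆ with hadef
    set b := ⁅s, q⁆ with hbdef
    have e1 : r * s * q * (r * s)⁻¹ = ⁅r, b⁆ * b * (a * q) := by
      simp only [hadef, hbdef, commutatorElement_def]; group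
    have e2 : s * r * q * (s * r)⁻¹ = ⁅s, a⁆ * a * (b * q) := by
      simp only [hadef, hbdef, commutatorElement_def]; group
    have e3 : s * r * q * (s * r)⁻¹ = X := by rw [hqdef]; group
    have e4 : r * s * q * (r * s)⁻¹ = z * X * z⁻¹ := by rw [hrsz, ← e3]; group
    refine hUz X hX ?_
    have hzX : ⁅X, z⁆ = X * (z * X * z⁻¹)⁻¹ := by simp only [commutatorElement_def]; group
    rw [hzX, ← e4, e1, ← e3, e2, show ⁅s, a⁆ * a * (b * q) * (⁅r, b⁆ * b * (a * q))⁻¹ =
      ⁅s, a⁆ * ⁅a, b⁆ * ⁅r, b⁆⁻¹ by simp only [commutatorElement_def]; group]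
    rcases hRU s hs hsz a ha haz with x1 | x1 <;> rcases h'.comm a ha b hb with x2 | x2 <;>
      rcases hRU r hr hrz b hb hbz with x3 | x3 <;> rw [x1, x2, x3] <;>
      simp [h'.sq, hz'inv, mul_assoc]

end Cfsg.Agent.SymplecticType

namespace Cfsg.Agent.SymplecticType

open Subgroup
open scoped commutatorElement

universe u

variable {G : Type u} [Group G] {z : G} {Q : Subgroup G}

/-- `⟨Q, g Q g⁻¹⟩` induces the symmetric group on the three involutions of `⟨z, g z g⁻¹⟩`. -/
theorem SmallSymp.fours (h : SmallSymp z Q) (g : G) (hne : g * z * g⁻¹ ≠ z) (hin : g * z * g⁻¹ ∈ Q) :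
    ∀ u ∈ closure ({z, g * z * g⁻¹} : Set G), ∀ v ∈ closure ({z, g * z * g⁻¹} : Set G),
      u ≠ 1 → v ≠ 1 → u ≠ v →
        ∃ x ∈ Q ⊔ Q.map (MulAut.conj g).toMonoidHom, x * z * x⁻¹ = u ∧ x * (g * z * g⁻¹) * x⁻¹ = v := by
  have h' := h.conj g
  have hzQ' := h.mem_conj g hne hin
  set Q' := Q.map (MulAut.conj g).toMonoidHom
  set z' := g * z * g⁻¹
  have hzz' : Commute z z' := (h.le z' hin).symm
  obtain ⟨t, ht, htz'⟩ := h.exists_not_commute hin h'.sq h'.ne_one hne
  obtain ⟨q, hq, hqz⟩ := h'.exists_not_commute hzQ' h.sq h.ne_one (Ne.symm hne)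
  have t1 : t * z * t⁻¹ = z := by rw [(h.le t ht).eq, mul_inv_cancel_right]
  have t2 : t * z' * t⁻¹ = z * z' := h.conj_eq ht hin htz'
  have q1 : q * z * q⁻¹ = z * z' := by rw [h'.conj_eq hq hzQ' hqz]; exact hzz'.eq.symm
  have q2 : q * z' * q⁻¹ = z' := by rw [(h'.le q hq).eq, mul_inv_cancel_right]
  have hT : t ∈ Q ⊔ Q' := mem_sup_left ht
  have hQ : q ∈ Q ⊔ Q' := mem_sup_right hq
  have act : ∀ a b c : G, a * (b * c) * a⁻¹ = (a * b * a⁻¹) * (a * c * a⁻¹) := fun a b c => by group
  have comp : ∀ a b c : G, (a * b) * c * (a * b)⁻¹ = a * (b * c * b⁻¹) * a⁻¹ := fun a b c => by group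
  have e1 : z * (z * z') = z' := by rw [← mul_assoc, h.sq, one_mul]
  have e2 : (z * z') * z' = z := by rw [mul_assoc, h'.sq, mul_one]
  have e3 : (z * z') * (z * z') = 1 := by
    rw [mul_assoc, ← mul_assoc z', ← hzz'.eq, mul_assoc, h'.sq, mul_one, h.sq]
  have e4 : z' * z = z * z' := hzz'.eq.symm
  have hsub : ∀ u ∈ closure ({z, z'} : Set G), u = 1 ∨ u = z ∨ u = z' ∨ u = z * z' := by
    intro u hu
    induction hu using closure_induction with
    | mem w hw => rcases hw with rfl | rfl <;> simp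
    | one => exact Or.inl rfl
    | mul a b _ _ ha hb =>
      have e5 : (z * z') * z = z' := by rw [← e4, mul_assoc, h.sq, mul_one]
      have e6 : z' * (z * z') = z := by rw [← mul_assoc, e4, e2]
      rcases ha with rfl | rfl | rfl | rfl <;> rcases hb with rfl | rfl | rfl | rfl <;>
        simp [h.sq, h'.sq, e1, e2, e3, e4, e5, e6]
    | inv a _ ha =>
      rcases ha with rfl | rfl | rfl | rfl
      · simp
      · exact Or.inr (Or.inl (inv_eq_of_mul_eq_one_left h.sq))
      · exact Or.inr (Or.inr (Or.inl (inv_eq_of_mul_eq_one_left h'.sq)))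
      · exact Or.inr (Or.inr (Or.inr (inv_eq_of_mul_eq_one_left e3)))
  intro u hu v hv hu1 hv1 huv
  rcases hsub u hu with rfl | rfl | rfl | rfl
  · exact absurd rfl hu1
  all_goals rcases hsub v hv with rfl | rfl | rfl | rfl
  all_goals first
    | exact absurd rfl hv1
    | exact absurd rfl huv
    | skip
  · exact ⟨1, one_mem _, by group, by group⟩
  · exact ⟨t, hT, t1, t2⟩
  · refine ⟨t * q * t, mul_mem (mul_mem hT hQ) hT, ?_, ?_⟩
    · rw [comp, t1, comp, q1, act, t1, t2, e1]
    · rw [comp, t2, comp, act q, q1, q2, e2, t1]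
  · refine ⟨t * q, mul_mem hT hQ, ?_, ?_⟩
    · rw [comp, q1, act, t1, t2, e1]
    · rw [comp, q2, t2]
  · refine ⟨q * t, mul_mem hQ hT, ?_, ?_⟩
    · rw [comp, t1, q1]
    · rw [comp, t2, act, q1, q2, e2]
  · exact ⟨q, hQ, q1, q2⟩

end Cfsg.Agent.SymplecticType
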